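import Cfsg.Agent.Lib.Mathieu.GraphAut

/-!
Verified search for the automorphisms of a graph, given by packed rows, which commute with a
listed permutation: the image of one point determines the images along its whole orbit.
-/

set_option autoImplicit false

namespace CfsgLib.J2Ico.CentraliserSearch

open MulAction CfsgLib.Mathieu CfsgLib.Mathieu.GraphAut

variable {n : ℕ}

/-- The forced pairs along an orbit of `t` when `x` goes to `y`. -/
def orbitPairs (t : ℕ) : ℕ → ℕ → ℕ → List (ℕ × ℕ)
  | 0, _, _ => []
  | k + 1, x, y => (x, y) :: orbitPairs t k (app7 t x) (app7 t y)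

/-- The search: every leaf must be one of the listed codes. -/
def search (n N t : ℕ) (listed : List ℕ) : List (ℕ × ℕ) → List (ℕ × ℕ) → Bool
  | P, [] => listed.any fun c => (List.range n).all fun x => P.contains (x, app7 c x)
  | P, q :: qs => decide (q.1 < n) && (List.range n).all fun y =>
      match closeRow n N n (P ++ orbitPairs t q.2 q.1 y) with
      | none => true
      | some Q => search n N t listed Q qs

theorem extends_orbitPairs {t : ℕ} (ht : isPerm7 n t = true) {g : Equiv.Perm (Fin n)}
    (hg : g * perm7 n t = perm7 n t * g) :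
    ∀ (k : ℕ) (x : Fin n), Extends g (orbitPairs t k x.1 (g x).1) := by
  intro k
  induction k with
  | zero => intro x q hq; simp [orbitPairs] at hq
  | succ k ih =>
    intro x q hq
    rcases List.mem_cons.1 hq with rfl | hq
    · exact ⟨x, rfl, rfl⟩
    · have h1 : app7 t x.1 = (perm7 n t x).1 := (perm7_apply ht x).symm
      have h2 : app7 t (g x).1 = (g (perm7 n t x)).1 := by
        rw [← perm7_apply ht, ← Equiv.Perm.mul_apply, ← Equiv.Perm.mul_apply, hg]
      rw [h1, h2] at hq
      exact ih _ q hq

/-- A commuting automorphism extending the current map is listed. -/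
theorem search_sound {N t : ℕ} {listed : List ℕ} (ht : isPerm7 n t = true)
    {g : Equiv.Perm (Fin n)} (hgN : g ∈ rowAut n N) (hg : g * perm7 n t = perm7 n t * g) :
    ∀ (qs P : List (ℕ × ℕ)), Extends g P → search n N t listed P qs = true →
      ∃ c ∈ listed, ∀ x : Fin n, (g x).1 = app7 c x.1 := by
  intro qs
  induction qs with
  | nil =>
    intro P hP h
    simp only [search, List.any_eq_true, List.all_eq_true, List.mem_range] at h
    obtain ⟨c, hc, h⟩ := h
    refine ⟨c, hc, fun x => ?_⟩
    obtain ⟨x', hx', hgx⟩ := hP _ (List.contains_iff_mem.1 (h x.1 x.2))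
    obtain rfl : x' = x := Fin.ext hx'
    exact hgx
  | cons q qs ih =>
    intro P hP h
    simp only [search, Bool.and_eq_true, decide_eq_true_eq, List.all_eq_true, List.mem_range] at h
    obtain ⟨hq, hall⟩ := h
    have hy := hall (g ⟨q.1, hq⟩).1 (g _).2
    have hext : Extends g (P ++ orbitPairs t q.2 q.1 (g ⟨q.1, hq⟩).1) := fun r hr => by
      rcases List.mem_append.1 hr with hr | hr
      · exact hP r hr
      · exact extends_orbitPairs ht hg q.2 ⟨q.1, hq⟩ r hr
    obtain ⟨Q, hQ, hQe⟩ := closeRow_sound hgN n _ hext
    rw [hQ] at hy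
    exact ih Q hQe hy

end CfsgLib.J2Ico.CentraliserSearch
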