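import Cfsg.Agent.Lib.Mathieu.J2
import Cfsg.Agent.Lib.SchurMult.TwoCollectOne

/-!
Certificates for the multiplier of the Hall–Janko permutation group: a collector for a Sylow
2-subgroup with two conjugations, and fusion in Sylow subgroups for three and five.
-/

set_option autoImplicit false
set_option maxRecDepth 100000

namespace CfsgLib.J2Ico.Mult

open CfsgLib.SchurMult

/-- Seven generators of the Sylow 2-subgroup, the conjugators, then the elements for three and five. -/
def codes : List ℕ := [
  1902709409998550789810530356465983839233604305102635756091477355951304470457840818954055024282640796809659514301390840370395877480893303476959314980841846391305204737806485007787170327829039181233767358626091995,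
  1757581896557634752358585204921988918543857367280309452589119326995335207145760259206256015678996267301271644812365811716556564082297326061562576831540516971584074605236693181139831973690072743048937584680206464,
  873645228969634056621588013457236238087540204533811955883061277385950932544112363693523315292866376304308568833993893416483316905932533921826792023505752374703817173796779711474267336037266366861795228189495991,
  2365405573663528924725611742140908708517395964473112609132320295569124266247518971180846816242663567347813344322759783288935771314935298040065866086509294463067031650965405407966547585834771715965980821376237824,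
  3397243355805559338043037944273759354728076961057899894098429592500673622015210174466260846601152718813520036015991718797513573248922825275979333413372877876609469304835570724100049889798867497209699395774530176,
  2561496862349022818515070343482658789988105286709168310050823386195815885792567645303746122697552101616623271440181068006265618664509835352316412058934937784397402669879583040902597412421117495415059860368181504,
  1746107202226202013629797962728983355888578660038970462274390055939672490049766146766482915332780650120667773818311382959218123552245036924230374228388626304750649240167172856970074131192902949450684526416677376,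
  3430382685154948435070585943667120396884716775665045047308696732767160857717955843478606122671485379993555644988031492385148379773826315770400707424104381802546652981038087402540842647673898711030126359131577737,
  578754477905678569203000948625056802657093369342337411188154327331858072526516225639765649099173302087800939150244386389838242625533749598625474524406480561628814650988605525369484448497638613526049456613425437,
  4098250291341412297491286680625758181633813469295990756345008118288020178459165729950694268075017980860824292621441370458590363028745247740281808413389507170276225485410363420397315340887399070914352133648129346,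
  4089356255886081404325692247827636348113898747863801210936575999552757844676609256409613881766579574185645306233547016237563128703359693185305316039121224656821052989601597240850752159362222096770870722513784152,
  4079194362638988763167472674784233273848477022249661805830690716827905313840497462170757467486919661957179306096743273576274901851436801016233257060760358947878355393959541901290588508278182314784677932792123171,
  4081111766869036074388912376853349014190177462432621690307133392298555678913028031182956918403820412140764255991615680393682308700009791462529032895580755294850440131303809890127413472982664342374558447784300672,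
  4081111766869036074388912376853349014190177462432621690307133392298555678913028031182956918403820412140764255991615680393682308700009791462529032895580755294850440131303809890127413472982664342374558447784300672,
  922224233449510089503317563916084579938182472530491104037949109952851172675135789107325732901518575056834762003567829384435708535419129641755212841434581820110286898706275471930899582596347181292531017373424769,
  841660057717791831516243088894058312854600784140184139887285800845466912455367235555574573502548236784241330147882533243909648837585942648351676294636066055676714608577762067794442869354753041025141575739777037,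
  2396191748925647120754082302877296943055417123123033227635455733461542991968357322960444906415836078430444866880663640786558832958340136085243993070758850874523519170492753702765253641918246037888864791977558144]

/-- Their words in the generators. -/
def codeWords : List (List ℕ) := [[6, 7, 10, 11, 8, 9, 10, 11, 8, 9, 0, 1, 6, 7, 8, 9, 10, 11, 6, 7, 8, 9, 8, 9, 4, 5, 6, 7, 0, 1, 6, 7, 4, 5], [6, 7, 6, 7, 4, 5, 6, 7, 4, 5, 2, 3, 0, 1], [0, 1, 6, 7, 8, 9, 10, 11, 2, 3, 6, 7, 8, 9, 6, 7, 8, 9, 10, 11, 8, 9, 8, 9, 6, 7, 6, 7, 4, 5, 8, 9, 4, 5, 6, 7, 4, 5, 6, 7], [8, 9, 4, 5, 6, 7, 4, 5, 6, 7], [8, 9, 4, 5, 8, 9, 4, 5, 6, 7, 4, 5, 6, 7, 4, 5, 2, 3, 0, 1], [8, 9, 0, 1, 6, 7, 8, 9, 4, 5, 6, 7, 2, 3, 0, 1], [6, 7, 8, 9, 6, 7, 8, 9, 6, 7, 6, 7, 6, 7, 2, 3], [8, 9, 10, 11, 0, 1, 6, 7, 8, 9, 10, 11, 8, 9, 0, 1, 6, 7, 4, 5, 8, 9, 6, 7, 4, 5, 6, 7, 2, 3, 0, 1], [8, 9, 6, 7, 6, 7, 4, 5, 8, 9, 10, 11, 4, 5, 8, 9, 6, 7, 2, 3, 0, 1, 6, 7, 6, 7], [6, 7, 6, 7, 8, 9, 6, 7, 10, 11, 8, 9, 6, 7, 8, 9, 10, 11, 8, 9, 8, 9, 8, 9, 6, 7, 6, 7, 4, 5, 6, 7, 2, 3], [8, 9, 10, 11, 2, 3, 6, 7, 8, 9, 6, 7, 8, 9, 10,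 11, 4, 5, 8, 9, 6, 7, 6, 7, 6, 7, 4, 5], [4, 5, 8, 9, 6, 7, 8, 9, 10, 11, 8, 9, 0, 1, 6, 7, 4, 5, 8, 9, 4, 5, 6, 7, 0, 1, 6, 7, 2, 3, 0, 1], [8, 9, 8, 9, 0, 1, 6, 7, 8, 9, 6, 7, 6, 7, 4, 5, 6, 7], [8, 9, 8, 9, 0, 1, 6, 7, 8, 9, 6, 7, 6, 7, 4, 5, 6, 7], [10, 11, 8, 9, 6, 7, 8, 9, 6, 7, 2, 3, 0, 1], [4, 5, 8, 9, 10, 11, 8, 9, 8, 9, 8, 9, 4, 5, 6, 7, 2, 3, 0, 1], [2, 3, 4, 5, 6, 7, 0, 1, 6, 7, 4, 5, 2, 3, 0, 1]]

/-- The position of the first conjugator. -/
def conjStart : ℕ := 7

/-- The position of the first element for the odd primes. -/
def oddStart : ℕ := 9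

/-- A collection table. -/
def table0 : Trie := (.node (.node (.node (.node (.node (.node (.node (.leaf 1) (.leaf 268435521)) (.node (.leaf 4194337) (.leaf 272629857))) (.node (.node (.leaf 131185) (.leaf 17448435761)) (.node (.leaf 8728477777) (.leaf 26176782353)))) (.node (.node (.node (.leaf 8233) (.leaf 268443753)) (.node (.leaf 138420233) (.leaf 406855753))) (.node (.node (.leaf 201465945) (.leaf 17649770521)) (.node (.leaf 8795594873) (.leaf 26243899449))))) (.node (.node (.node (.node (.leaf 1125) (.leaf 17448305701)) (.node (.leaf 8728347717) (.leaf 26176652293))) (.node (.node (.leaf 30266229781) (.leaf 30534665301)) (.node (.leaf 30270424117) (.leaf 30538859637)))) (.node (.node (.node (.leaf 10905199693) (.leaf 28353504269)) (.node (.leaf 2319459437) (.leaf 19767764013))) (.node (.node (.leaf 23790232637) (.leaf 24058668157)) (.node (.leaf 23660209181) (.leaf 23928644701)))))) (.node (.node (.node (.node (.node (.leaf 335) (.leaf 17448304911)) (.node (.leaf 8594129263) (.leaf 26042433839))) (.node (.node (.leaf 30064902463) (.leaf 30333337983)) (.node (.leaf 30203314463)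 (.leaf 30471749983)))) (.node (.node (.node (.leaf 10871710023) (.leaf 28320014599)) (.node (.leaf 2285969767) (.leaf 19734274343))) (.node (.node (.leaf 23756742967) (.leaf 24025178487)) (.node (.leaf 23626719511) (.leaf 23895155031))))) (.node (.node (.node (.node (.leaf 18387866955) (.leaf 1476433163)) (.node (.leaf 26981995883) (.leaf 10070562091))) (.node (.node (.leaf 14093030715) (.leaf 14361466235)) (.node (.leaf 13963007259) (.leaf 14231442779)))) (.node (.node (.node (.leaf 28991141187) (.leaf 12079707395)) (.node (.leaf 20405400931) (.leaf 3493967139))) (.node (.node (.leaf 7516435763) (.leaf 7784871283)) (.node (.leaf 7654847763) (.leaf 7923283283))))))) (.node (.node (.node (.node (.node (.node (.leaf 128) (.leaf 268435648)) (.node (.leaf 4194464) (.leaf 272629984))) (.node (.node (.leaf 131312) (.leaf 17448435888)) (.node (.leaf 8728477904) (.leaf 26176782480)))) (.node (.node (.node (.leaf 8360) (.leaf 268443880)) (.node (.leaf 138420360) (.leaf 406855880))) (.node (.node (.leaf 201466072) (.leaf 17649770648)) (.node (.leaf 8795595000) (.leaf 26243899576))))) (.node (.node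 (.node (.node (.leaf 1252) (.leaf 17448305828)) (.node (.leaf 8728347844) (.leaf 26176652420))) (.node (.node (.leaf 30266229908) (.leaf 30534665428)) (.node (.leaf 30270424244) (.leaf 30538859764)))) (.node (.node (.node (.leaf 10905199820) (.leaf 28353504396)) (.node (.leaf 2319459564) (.leaf 19767764140))) (.node (.node (.leaf 23790232764) (.leaf 24058668284)) (.node (.leaf 23660209308) (.leaf 23928644828)))))) (.node (.node (.node (.node (.node (.leaf 462) (.leaf 17448305038)) (.node (.leaf 8594129390) (.leaf 26042433966))) (.node (.node (.leaf 30064902590) (.leaf 30333338110)) (.node (.leaf 30203314590) (.leaf 30471750110)))) (.node (.node (.node (.leaf 10871710150) (.leaf 28320014726)) (.node (.leaf 2285969894) (.leaf 19734274470))) (.node (.node (.leaf 23756743094) (.leaf 24025178614)) (.node (.leaf 23626719638) (.leaf 23895155158))))) (.node (.node (.node (.node (.leaf 18387867082) (.leaf 1476433290)) (.node (.leaf 26981996010) (.leaf 10070562218))) (.node (.node (.leaf 14093030842) (.leaf 14361466362)) (.node (.leaf 13963007386) (.leaf 14231442906)))) (.node (.node (.node (.leaf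 28991141314) (.leaf 12079707522)) (.node (.leaf 20405401058) (.leaf 3493967266))) (.node (.node (.leaf 7516435890) (.leaf 7784871410)) (.node (.leaf 7654847890) (.leaf 7923283410))))))))

/-- A collection table. -/
def table1 : Trie := (.node (.node (.node (.node (.node (.node (.node (.leaf 2) (.leaf 536870978)) (.node (.leaf 8388706) (.leaf 17725128738))) (.node (.node (.leaf 262162) (.leaf 537133138)) (.node (.leaf 8650866) (.leaf 17725390898)))) (.node (.node (.node (.leaf 16442) (.leaf 536887418)) (.node (.leaf 142622810) (.leaf 17859362842))) (.node (.node (.leaf 8659419242) (.leaf 26376159274)) (.node (.leaf 17391960074) (.leaf 17928831050))))) (.node (.node (.node (.node (.leaf 2102) (.leaf 536873078)) (.node (.leaf 142608470) (.leaf 17859348502))) (.node (.node (.leaf 8659404902) (.leaf 26376144934)) (.node (.leaf 17391945734) (.leaf 17928816710)))) (.node (.node (.node (.leaf 238045262) (.leaf 17954785294)) (.node (.leaf 26016237614) (.leaf 26553108590))) (.node (.node (.leaf 4533274718) (.leaf 22250014750)) (.node (.leaf 30311467070) (.leaf 30848338046)))))) (.node (.node (.node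 (.node (.node (.leaf 512) (.leaf 536871488)) (.node (.leaf 8389216) (.leaf 17725129248))) (.node (.node (.leaf 262672) (.leaf 537133648)) (.node (.leaf 8651376) (.leaf 17725391408)))) (.node (.node (.node (.leaf 16952) (.leaf 536887928)) (.node (.leaf 142623320) (.leaf 17859363352))) (.node (.node (.leaf 8659419752) (.leaf 26376159784)) (.node (.leaf 17391960584) (.leaf 17928831560))))) (.node (.node (.node (.node (.leaf 2612) (.leaf 536873588)) (.node (.leaf 142608980) (.leaf 17859349012))) (.node (.node (.leaf 8659405412) (.leaf 26376145444)) (.node (.leaf 17391946244) (.leaf 17928817220)))) (.node (.node (.node (.leaf 238045772) (.leaf 17954785804)) (.node (.leaf 26016238124) (.leaf 26553109100))) (.node (.node (.leaf 4533275228) (.leaf 22250015260)) (.node (.leaf 30311467580) (.leaf 30848338556))))))) (.node (.node (.node (.node (.node (.node (.leaf 3) (.leaf 536870979)) (.node (.leaf 8388707) (.leaf 17725128739))) (.node (.node (.leaf 262163) (.leaf 537133139)) (.node (.leaf 8650867) (.leaf 17725390899)))) (.node (.node (.node (.leaf 16443) (.leaf 536887419)) (.node (.leaf 142622811)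 (.leaf 17859362843))) (.node (.node (.leaf 8659419243) (.leaf 26376159275)) (.node (.leaf 17391960075) (.leaf 17928831051))))) (.node (.node (.node (.node (.leaf 2103) (.leaf 536873079)) (.node (.leaf 142608471) (.leaf 17859348503))) (.node (.node (.leaf 8659404903) (.leaf 26376144935)) (.node (.leaf 17391945735) (.leaf 17928816711)))) (.node (.node (.node (.leaf 238045263) (.leaf 17954785295)) (.node (.leaf 26016237615) (.leaf 26553108591))) (.node (.node (.leaf 4533274719) (.leaf 22250014751)) (.node (.leaf 30311467071) (.leaf 30848338047)))))) (.node (.node (.node (.node (.node (.leaf 513) (.leaf 536871489)) (.node (.leaf 8389217) (.leaf 17725129249))) (.node (.node (.leaf 262673) (.leaf 537133649)) (.node (.leaf 8651377) (.leaf 17725391409)))) (.node (.node (.node (.leaf 16953) (.leaf 536887929)) (.node (.leaf 142623321) (.leaf 17859363353))) (.node (.node (.leaf 8659419753) (.leaf 26376159785)) (.node (.leaf 17391960585) (.leaf 17928831561))))) (.node (.node (.node (.node (.leaf 2613) (.leaf 536873589)) (.node (.leaf 142608981) (.leaf 17859349013))) (.node (.node (.leaf 8659405413)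 (.leaf 26376145445)) (.node (.leaf 17391946245) (.leaf 17928817221)))) (.node (.node (.node (.leaf 238045773) (.leaf 17954785805)) (.node (.leaf 26016238125) (.leaf 26553109101))) (.node (.node (.leaf 4533275229) (.leaf 22250015261)) (.node (.leaf 30311467581) (.leaf 30848338557))))))))

/-- A collection table. -/
def table2 : Trie := (.node (.node (.node (.node (.node (.node (.node (.leaf 4) (.leaf 1073741892)) (.node (.leaf 16777252) (.leaf 1090519140))) (.node (.node (.leaf 524372) (.leaf 18254135316)) (.node (.leaf 8607236212) (.leaf 26860847156)))) (.node (.node (.node (.leaf 32876) (.leaf 18253643820)) (.node (.leaf 8740962380) (.leaf 26994573324))) (.node (.node (.leaf 21542502460) (.leaf 22616244348)) (.node (.leaf 21693497372) (.leaf 22767239260))))) (.node (.node (.node (.node (.leaf 4096) (.leaf 1073745984)) (.node (.leaf 16781344) (.leaf 1090523232))) (.node (.node (.leaf 528464) (.leaf 18254139408)) (.node (.leaf 8607240304) (.leaf 26860851248)))) (.node (.node (.node (.leaf 36968) (.leaf 18253647912)) (.node (.leaf 8740966472) (.leaf 26994577416))) (.node (.node (.leaf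 21542506552) (.leaf 22616248440)) (.node (.leaf 21693501464) (.leaf 22767243352)))))) (.node (.node (.node (.node (.node (.leaf 6) (.leaf 1073741894)) (.node (.leaf 16777254) (.leaf 1090519142))) (.node (.node (.leaf 524374) (.leaf 18254135318)) (.node (.leaf 8607236214) (.leaf 26860847158)))) (.node (.node (.node (.leaf 32878) (.leaf 18253643822)) (.node (.leaf 8740962382) (.leaf 26994573326))) (.node (.node (.leaf 21542502462) (.leaf 22616244350)) (.node (.leaf 21693497374) (.leaf 22767239262))))) (.node (.node (.node (.node (.leaf 4098) (.leaf 1073745986)) (.node (.leaf 16781346) (.leaf 1090523234))) (.node (.node (.leaf 528466) (.leaf 18254139410)) (.node (.leaf 8607240306) (.leaf 26860851250)))) (.node (.node (.node (.leaf 36970) (.leaf 18253647914)) (.node (.leaf 8740966474) (.leaf 26994577418))) (.node (.node (.leaf 21542506554) (.leaf 22616248442)) (.node (.leaf 21693501466) (.leaf 22767243354))))))) (.node (.node (.node (.node (.node (.node (.leaf 5) (.leaf 1073741893)) (.node (.leaf 16777253) (.leaf 1090519141))) (.node (.node (.leaf 524373) (.leaf 18254135317)) (.node (.leaf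 8607236213) (.leaf 26860847157)))) (.node (.node (.node (.leaf 32877) (.leaf 18253643821)) (.node (.leaf 8740962381) (.leaf 26994573325))) (.node (.node (.leaf 21542502461) (.leaf 22616244349)) (.node (.leaf 21693497373) (.leaf 22767239261))))) (.node (.node (.node (.node (.leaf 4097) (.leaf 1073745985)) (.node (.leaf 16781345) (.leaf 1090523233))) (.node (.node (.leaf 528465) (.leaf 18254139409)) (.node (.leaf 8607240305) (.leaf 26860851249)))) (.node (.node (.node (.leaf 36969) (.leaf 18253647913)) (.node (.leaf 8740966473) (.leaf 26994577417))) (.node (.node (.leaf 21542506553) (.leaf 22616248441)) (.node (.leaf 21693501465) (.leaf 22767243353)))))) (.node (.node (.node (.node (.node (.leaf 7) (.leaf 1073741895)) (.node (.leaf 16777255) (.leaf 1090519143))) (.node (.node (.leaf 524375) (.leaf 18254135319)) (.node (.leaf 8607236215) (.leaf 26860847159)))) (.node (.node (.node (.leaf 32879) (.leaf 18253643823)) (.node (.leaf 8740962383) (.leaf 26994573327))) (.node (.node (.leaf 21542502463) (.leaf 22616244351)) (.node (.leaf 21693497375) (.leaf 22767239263))))) (.node (.node (.node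 (.node (.leaf 4099) (.leaf 1073745987)) (.node (.leaf 16781347) (.leaf 1090523235))) (.node (.node (.leaf 528467) (.leaf 18254139411)) (.node (.leaf 8607240307) (.leaf 26860851251)))) (.node (.node (.node (.leaf 36971) (.leaf 18253647915)) (.node (.leaf 8740966475) (.leaf 26994577419))) (.node (.node (.leaf 21542506555) (.leaf 22616248443)) (.node (.leaf 21693501467) (.leaf 22767243355))))))))

/-- A collection table. -/
def table3 : Trie := (.node (.node (.node (.node (.node (.node (.node (.leaf 8) (.leaf 2147483720)) (.node (.leaf 33554472) (.leaf 2181038184))) (.node (.node (.leaf 1048600) (.leaf 2148532312)) (.node (.leaf 34603064) (.leaf 2182086776)))) (.node (.node (.node (.leaf 65568) (.leaf 2147549280)) (.node (.leaf 167837696) (.leaf 2315321408))) (.node (.node (.leaf 68223024) (.leaf 2215706736)) (.node (.leaf 235995152) (.leaf 2383478864))))) (.node (.node (.node (.node (.leaf 12) (.leaf 2147483724)) (.node (.leaf 33554476) (.leaf 2181038188))) (.node (.node (.leaf 1048604) (.leaf 2148532316)) (.node (.leaf 34603068) (.leaf 2182086780)))) (.node (.node (.node (.leaf 65572)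 (.leaf 2147549284)) (.node (.leaf 167837700) (.leaf 2315321412))) (.node (.node (.leaf 68223028) (.leaf 2215706740)) (.node (.leaf 235995156) (.leaf 2383478868)))))) (.node (.node (.node (.node (.node (.leaf 10) (.leaf 2147483722)) (.node (.leaf 33554474) (.leaf 2181038186))) (.node (.node (.leaf 1048602) (.leaf 2148532314)) (.node (.leaf 34603066) (.leaf 2182086778)))) (.node (.node (.node (.leaf 65570) (.leaf 2147549282)) (.node (.leaf 167837698) (.leaf 2315321410))) (.node (.node (.leaf 68223026) (.leaf 2215706738)) (.node (.leaf 235995154) (.leaf 2383478866))))) (.node (.node (.node (.node (.leaf 14) (.leaf 2147483726)) (.node (.leaf 33554478) (.leaf 2181038190))) (.node (.node (.leaf 1048606) (.leaf 2148532318)) (.node (.leaf 34603070) (.leaf 2182086782)))) (.node (.node (.node (.leaf 65574) (.leaf 2147549286)) (.node (.leaf 167837702) (.leaf 2315321414))) (.node (.node (.leaf 68223030) (.leaf 2215706742)) (.node (.leaf 235995158) (.leaf 2383478870))))))) (.node (.node (.node (.node (.node (.node (.leaf 9) (.leaf 2147483721)) (.node (.leaf 33554473) (.leaf 2181038185))) (.node (.node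 (.leaf 1048601) (.leaf 2148532313)) (.node (.leaf 34603065) (.leaf 2182086777)))) (.node (.node (.node (.leaf 65569) (.leaf 2147549281)) (.node (.leaf 167837697) (.leaf 2315321409))) (.node (.node (.leaf 68223025) (.leaf 2215706737)) (.node (.leaf 235995153) (.leaf 2383478865))))) (.node (.node (.node (.node (.leaf 13) (.leaf 2147483725)) (.node (.leaf 33554477) (.leaf 2181038189))) (.node (.node (.leaf 1048605) (.leaf 2148532317)) (.node (.leaf 34603069) (.leaf 2182086781)))) (.node (.node (.node (.leaf 65573) (.leaf 2147549285)) (.node (.leaf 167837701) (.leaf 2315321413))) (.node (.node (.leaf 68223029) (.leaf 2215706741)) (.node (.leaf 235995157) (.leaf 2383478869)))))) (.node (.node (.node (.node (.node (.leaf 11) (.leaf 2147483723)) (.node (.leaf 33554475) (.leaf 2181038187))) (.node (.node (.leaf 1048603) (.leaf 2148532315)) (.node (.leaf 34603067) (.leaf 2182086779)))) (.node (.node (.node (.leaf 65571) (.leaf 2147549283)) (.node (.leaf 167837699) (.leaf 2315321411))) (.node (.node (.leaf 68223027) (.leaf 2215706739)) (.node (.leaf 235995155) (.leaf 2383478867))))) (.node (.node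 (.node (.node (.leaf 15) (.leaf 2147483727)) (.node (.leaf 33554479) (.leaf 2181038191))) (.node (.node (.leaf 1048607) (.leaf 2148532319)) (.node (.leaf 34603071) (.leaf 2182086783)))) (.node (.node (.node (.leaf 65575) (.leaf 2147549287)) (.node (.leaf 167837703) (.leaf 2315321415))) (.node (.node (.leaf 68223031) (.leaf 2215706743)) (.node (.leaf 235995159) (.leaf 2383478871))))))))

/-- A collection table. -/
def table4 : Trie := (.node (.node (.node (.node (.node (.node (.node (.leaf 16) (.leaf 4294967376)) (.node (.leaf 67108912) (.leaf 4362076272))) (.node (.node (.leaf 2097216) (.leaf 21476933632)) (.node (.leaf 8659140704) (.leaf 30133977120)))) (.node (.node (.node (.leaf 24) (.leaf 4294967384)) (.node (.leaf 67108920) (.leaf 4362076280))) (.node (.node (.leaf 2097224) (.leaf 21476933640)) (.node (.leaf 8659140712) (.leaf 30133977128))))) (.node (.node (.node (.node (.leaf 20) (.leaf 4294967380)) (.node (.leaf 67108916) (.leaf 4362076276))) (.node (.node (.leaf 2097220) (.leaf 21476933636)) (.node (.leaf 8659140708) (.leaf 30133977124)))) (.node (.node (.node (.leaf 28) (.leaf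 4294967388)) (.node (.leaf 67108924) (.leaf 4362076284))) (.node (.node (.leaf 2097228) (.leaf 21476933644)) (.node (.leaf 8659140716) (.leaf 30133977132)))))) (.node (.node (.node (.node (.node (.leaf 18) (.leaf 4294967378)) (.node (.leaf 67108914) (.leaf 4362076274))) (.node (.node (.leaf 2097218) (.leaf 21476933634)) (.node (.leaf 8659140706) (.leaf 30133977122)))) (.node (.node (.node (.leaf 26) (.leaf 4294967386)) (.node (.leaf 67108922) (.leaf 4362076282))) (.node (.node (.leaf 2097226) (.leaf 21476933642)) (.node (.leaf 8659140714) (.leaf 30133977130))))) (.node (.node (.node (.node (.leaf 22) (.leaf 4294967382)) (.node (.leaf 67108918) (.leaf 4362076278))) (.node (.node (.leaf 2097222) (.leaf 21476933638)) (.node (.leaf 8659140710) (.leaf 30133977126)))) (.node (.node (.node (.leaf 30) (.leaf 4294967390)) (.node (.leaf 67108926) (.leaf 4362076286))) (.node (.node (.leaf 2097230) (.leaf 21476933646)) (.node (.leaf 8659140718) (.leaf 30133977134))))))) (.node (.node (.node (.node (.node (.node (.leaf 17) (.leaf 4294967377)) (.node (.leaf 67108913) (.leaf 4362076273))) (.node (.node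 (.leaf 2097217) (.leaf 21476933633)) (.node (.leaf 8659140705) (.leaf 30133977121)))) (.node (.node (.node (.leaf 25) (.leaf 4294967385)) (.node (.leaf 67108921) (.leaf 4362076281))) (.node (.node (.leaf 2097225) (.leaf 21476933641)) (.node (.leaf 8659140713) (.leaf 30133977129))))) (.node (.node (.node (.node (.leaf 21) (.leaf 4294967381)) (.node (.leaf 67108917) (.leaf 4362076277))) (.node (.node (.leaf 2097221) (.leaf 21476933637)) (.node (.leaf 8659140709) (.leaf 30133977125)))) (.node (.node (.node (.leaf 29) (.leaf 4294967389)) (.node (.leaf 67108925) (.leaf 4362076285))) (.node (.node (.leaf 2097229) (.leaf 21476933645)) (.node (.leaf 8659140717) (.leaf 30133977133)))))) (.node (.node (.node (.node (.node (.leaf 19) (.leaf 4294967379)) (.node (.leaf 67108915) (.leaf 4362076275))) (.node (.node (.leaf 2097219) (.leaf 21476933635)) (.node (.leaf 8659140707) (.leaf 30133977123)))) (.node (.node (.node (.leaf 27) (.leaf 4294967387)) (.node (.leaf 67108923) (.leaf 4362076283))) (.node (.node (.leaf 2097227) (.leaf 21476933643)) (.node (.leaf 8659140715) (.leaf 30133977131))))) (.node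 (.node (.node (.node (.leaf 23) (.leaf 4294967383)) (.node (.leaf 67108919) (.leaf 4362076279))) (.node (.node (.leaf 2097223) (.leaf 21476933639)) (.node (.leaf 8659140711) (.leaf 30133977127)))) (.node (.node (.node (.leaf 31) (.leaf 4294967391)) (.node (.leaf 67108927) (.leaf 4362076287))) (.node (.node (.leaf 2097231) (.leaf 21476933647)) (.node (.leaf 8659140719) (.leaf 30133977135))))))))

/-- A collection table. -/
def table5 : Trie := (.node (.node (.node (.node (.node (.node (.node (.leaf 32) (.leaf 8589934688)) (.node (.leaf 134217728) (.leaf 8724152384))) (.node (.node (.leaf 48) (.leaf 8589934704)) (.node (.leaf 134217744) (.leaf 8724152400)))) (.node (.node (.node (.leaf 40) (.leaf 8589934696)) (.node (.leaf 134217736) (.leaf 8724152392))) (.node (.node (.leaf 56) (.leaf 8589934712)) (.node (.leaf 134217752) (.leaf 8724152408))))) (.node (.node (.node (.node (.leaf 36) (.leaf 8589934692)) (.node (.leaf 134217732) (.leaf 8724152388))) (.node (.node (.leaf 52) (.leaf 8589934708)) (.node (.leaf 134217748) (.leaf 8724152404)))) (.node (.node (.node (.leaf 44) (.leaf 8589934700))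 (.node (.leaf 134217740) (.leaf 8724152396))) (.node (.node (.leaf 60) (.leaf 8589934716)) (.node (.leaf 134217756) (.leaf 8724152412)))))) (.node (.node (.node (.node (.node (.leaf 34) (.leaf 8589934690)) (.node (.leaf 134217730) (.leaf 8724152386))) (.node (.node (.leaf 50) (.leaf 8589934706)) (.node (.leaf 134217746) (.leaf 8724152402)))) (.node (.node (.node (.leaf 42) (.leaf 8589934698)) (.node (.leaf 134217738) (.leaf 8724152394))) (.node (.node (.leaf 58) (.leaf 8589934714)) (.node (.leaf 134217754) (.leaf 8724152410))))) (.node (.node (.node (.node (.leaf 38) (.leaf 8589934694)) (.node (.leaf 134217734) (.leaf 8724152390))) (.node (.node (.leaf 54) (.leaf 8589934710)) (.node (.leaf 134217750) (.leaf 8724152406)))) (.node (.node (.node (.leaf 46) (.leaf 8589934702)) (.node (.leaf 134217742) (.leaf 8724152398))) (.node (.node (.leaf 62) (.leaf 8589934718)) (.node (.leaf 134217758) (.leaf 8724152414))))))) (.node (.node (.node (.node (.node (.node (.leaf 33) (.leaf 8589934689)) (.node (.leaf 134217729) (.leaf 8724152385))) (.node (.node (.leaf 49) (.leaf 8589934705)) (.node (.leaf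 134217745) (.leaf 8724152401)))) (.node (.node (.node (.leaf 41) (.leaf 8589934697)) (.node (.leaf 134217737) (.leaf 8724152393))) (.node (.node (.leaf 57) (.leaf 8589934713)) (.node (.leaf 134217753) (.leaf 8724152409))))) (.node (.node (.node (.node (.leaf 37) (.leaf 8589934693)) (.node (.leaf 134217733) (.leaf 8724152389))) (.node (.node (.leaf 53) (.leaf 8589934709)) (.node (.leaf 134217749) (.leaf 8724152405)))) (.node (.node (.node (.leaf 45) (.leaf 8589934701)) (.node (.leaf 134217741) (.leaf 8724152397))) (.node (.node (.leaf 61) (.leaf 8589934717)) (.node (.leaf 134217757) (.leaf 8724152413)))))) (.node (.node (.node (.node (.node (.leaf 35) (.leaf 8589934691)) (.node (.leaf 134217731) (.leaf 8724152387))) (.node (.node (.leaf 51) (.leaf 8589934707)) (.node (.leaf 134217747) (.leaf 8724152403)))) (.node (.node (.node (.leaf 43) (.leaf 8589934699)) (.node (.leaf 134217739) (.leaf 8724152395))) (.node (.node (.leaf 59) (.leaf 8589934715)) (.node (.leaf 134217755) (.leaf 8724152411))))) (.node (.node (.node (.node (.leaf 39) (.leaf 8589934695)) (.node (.leaf 134217735) (.leaf 8724152391)))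 (.node (.node (.leaf 55) (.leaf 8589934711)) (.node (.leaf 134217751) (.leaf 8724152407)))) (.node (.node (.node (.leaf 47) (.leaf 8589934703)) (.node (.leaf 134217743) (.leaf 8724152399))) (.node (.node (.leaf 63) (.leaf 8589934719)) (.node (.leaf 134217759) (.leaf 8724152415))))))))

/-- A collection table. -/
def table6 : Trie := (.node (.node (.node (.node (.node (.node (.node (.leaf 64) (.leaf 17179869184)) (.node (.leaf 96) (.leaf 17179869216))) (.node (.node (.leaf 80) (.leaf 17179869200)) (.node (.leaf 112) (.leaf 17179869232)))) (.node (.node (.node (.leaf 72) (.leaf 17179869192)) (.node (.leaf 104) (.leaf 17179869224))) (.node (.node (.leaf 88) (.leaf 17179869208)) (.node (.leaf 120) (.leaf 17179869240))))) (.node (.node (.node (.node (.leaf 68) (.leaf 17179869188)) (.node (.leaf 100) (.leaf 17179869220))) (.node (.node (.leaf 84) (.leaf 17179869204)) (.node (.leaf 116) (.leaf 17179869236)))) (.node (.node (.node (.leaf 76) (.leaf 17179869196)) (.node (.leaf 108) (.leaf 17179869228))) (.node (.node (.leaf 92) (.leaf 17179869212)) (.node (.leaf 124) (.leaf 17179869244))))))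 (.node (.node (.node (.node (.node (.leaf 66) (.leaf 17179869186)) (.node (.leaf 98) (.leaf 17179869218))) (.node (.node (.leaf 82) (.leaf 17179869202)) (.node (.leaf 114) (.leaf 17179869234)))) (.node (.node (.node (.leaf 74) (.leaf 17179869194)) (.node (.leaf 106) (.leaf 17179869226))) (.node (.node (.leaf 90) (.leaf 17179869210)) (.node (.leaf 122) (.leaf 17179869242))))) (.node (.node (.node (.node (.leaf 70) (.leaf 17179869190)) (.node (.leaf 102) (.leaf 17179869222))) (.node (.node (.leaf 86) (.leaf 17179869206)) (.node (.leaf 118) (.leaf 17179869238)))) (.node (.node (.node (.leaf 78) (.leaf 17179869198)) (.node (.leaf 110) (.leaf 17179869230))) (.node (.node (.leaf 94) (.leaf 17179869214)) (.node (.leaf 126) (.leaf 17179869246))))))) (.node (.node (.node (.node (.node (.node (.leaf 65) (.leaf 17179869185)) (.node (.leaf 97) (.leaf 17179869217))) (.node (.node (.leaf 81) (.leaf 17179869201)) (.node (.leaf 113) (.leaf 17179869233)))) (.node (.node (.node (.leaf 73) (.leaf 17179869193)) (.node (.leaf 105) (.leaf 17179869225))) (.node (.node (.leaf 89) (.leaf 17179869209)) (.node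 (.leaf 121) (.leaf 17179869241))))) (.node (.node (.node (.node (.leaf 69) (.leaf 17179869189)) (.node (.leaf 101) (.leaf 17179869221))) (.node (.node (.leaf 85) (.leaf 17179869205)) (.node (.leaf 117) (.leaf 17179869237)))) (.node (.node (.node (.leaf 77) (.leaf 17179869197)) (.node (.leaf 109) (.leaf 17179869229))) (.node (.node (.leaf 93) (.leaf 17179869213)) (.node (.leaf 125) (.leaf 17179869245)))))) (.node (.node (.node (.node (.node (.leaf 67) (.leaf 17179869187)) (.node (.leaf 99) (.leaf 17179869219))) (.node (.node (.leaf 83) (.leaf 17179869203)) (.node (.leaf 115) (.leaf 17179869235)))) (.node (.node (.node (.leaf 75) (.leaf 17179869195)) (.node (.leaf 107) (.leaf 17179869227))) (.node (.node (.leaf 91) (.leaf 17179869211)) (.node (.leaf 123) (.leaf 17179869243))))) (.node (.node (.node (.node (.leaf 71) (.leaf 17179869191)) (.node (.leaf 103) (.leaf 17179869223))) (.node (.node (.leaf 87) (.leaf 17179869207)) (.node (.leaf 119) (.leaf 17179869239)))) (.node (.node (.node (.leaf 79) (.leaf 17179869199)) (.node (.leaf 111) (.leaf 17179869231))) (.node (.node (.leaf 95) (.leaf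 17179869215)) (.node (.leaf 127) (.leaf 17179869247))))))))

/-- The collector. -/
def col : Collector where
  n := 7
  rels := [([0, 0], []), ([1, 0], [0, 1, 2, 3, 6]), ([1, 1], []), ([2, 0], [0, 2, 5, 6]), ([2, 1], [1, 2, 4, 5]), ([2, 2], []), ([3, 0], [0, 3, 5]), ([3, 1], [1, 3, 4, 5]), ([3, 2], [2, 3, 5, 6]), ([3, 3], [5]), ([4, 0], [0, 4, 5, 6]), ([4, 1], [1, 4]), ([4, 2], [2, 4, 6]), ([4, 3], [3, 4]), ([4, 4], [6]), ([5, 0], [0, 5]), ([5, 1], [1, 5, 6]), ([5, 2], [2, 5]), ([5, 3], [3, 5]), ([5, 4], [4, 5]), ([5, 5], []), ([6, 0], [0, 6]), ([6, 1], [1, 6]), ([6, 2], [2, 6]), ([6, 3], [3, 6]), ([6, 4], [4, 6]), ([6, 5], [5, 6]), ([6, 6], [])]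
  table := [table0, table1, table2, table3, table4, table5, table6]
  eqs := [
    .assoc [1] 0,
    .assoc [2] 0,
    .assoc [3] 0,
    .assoc [1] 1,
    .assoc [2] 1,
    .assoc [3] 1,
    .assoc [4] 1,
    .assoc [5] 1,
    .assoc [6] 1,
    .assoc [2] 2,
    .assoc [5] 2,
    .assoc [2] 3,
    .assoc [3] 3,
    .assoc [4] 3,
    .assoc [5] 3,
    .assoc [2] 4,
    .assoc [3] 4,
    .assoc [4] 7,
    .conj 0 [(0, 0), (2, 30), (16, 46), (32, 50), (34, 44), (48, 28), (96, 114)] [(34, 2), (32, 16), (48, 16), (2, 32)],
    .conj 0 [(0, 0), (16, 46), (32, 50), (48, 28)] [(32, 16), (16, 32)],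
    .conj 0 [(0, 0), (12, 126), (32, 50), (44, 12)] [(12, 32), (32, 12)],
    .conj 1 [(0, 0), (1, 21)] [(1, 1)],
    .conj 1 [(0, 0), (4, 109)] [(4, 4)]]
  gauge := [0, 0, 74, 0, 80, 64, 72]
  comb := [6356151, 0, 811504, 0, 0, 2345280, 0, 1165424, 75924, 2200999, 204146, 1590662, 763705, 1748976, 726971, 140468, 1049081, 224752, 6402, 131072, 140464, 210290, 225652, 160820, 161076, 3254, 16384, 226676]

/-- An involution of the Sylow subgroup. -/
def pairX : ℕ := 1

/-- An element commuting with it. -/
def pairY : ℕ := 20

/-- The class left over. -/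
def extra : List Bool := [true, false, false, false, false, true, false, false, true, false, true, false, false, false, false, false, false, false, false, false, false, false, false, false, false, false, false, false]

/-- Words for the Sylow 3-subgroup. -/
def closure27 : List (List ℕ) := [[], [0], [1], [0, 0], [1, 0], [0, 1], [1, 1], [1, 0, 0], [0, 1, 0], [1, 1, 0], [0, 0, 1], [1, 0, 1], [0, 1, 1], [0, 1, 0, 0], [1, 1, 0, 0], [0, 0, 1, 0], [1, 0, 1, 0], [0, 1, 1, 0], [1, 1, 0, 1], [1, 0, 1, 1], [0, 0, 1, 0, 0], [1, 0, 1, 0, 0], [0, 1, 1, 0, 0], [1, 1, 0, 1, 0], [1, 0, 1, 1, 0], [1, 1, 0, 1, 0, 0], [1, 0, 1, 1, 0, 0]]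

/-- Words for the Sylow 5-subgroup. -/
def closure25 : List (List ℕ) := [[], [0], [1], [0, 0], [1, 0], [1, 1], [0, 0, 0], [1, 0, 0], [1, 1, 0], [1, 1, 1], [0, 0, 0, 0], [1, 0, 0, 0], [1, 1, 0, 0], [1, 1, 1, 0], [1, 1, 1, 1], [1, 0, 0, 0, 0], [1, 1, 0, 0, 0], [1, 1, 1, 0, 0], [1, 1, 1, 1, 0], [1, 1, 0, 0, 0, 0], [1, 1, 1, 0, 0, 0], [1, 1, 1, 1, 0, 0], [1, 1, 1, 0, 0, 0, 0], [1, 1, 1, 1, 0, 0, 0], [1, 1, 1, 1, 0, 0, 0, 0]]

/-- An even word in the seeds for the central involution. -/
def evenNegWord : List ℕ := [0, 1, 2, 1, 3, 1, 0, 1, 2, 1, 3, 1, 0, 1, 2, 1, 3, 1, 0, 1, 2, 1, 3, 1, 0, 1, 2, 1, 3, 1, 0, 1, 2, 1, 3, 1, 0, 1, 2, 1, 3, 1]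

end CfsgLib.J2Ico.Mult
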