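import Cfsg.Agent.Lib.J2Ico.OuterCheck
import Cfsg.Agent.Lib.J2Ico.Group
import Cfsg.Agent.Lib.OutMathieu.Rigid

/-!
The outer automorphism group of the Hall–Janko group has order two: after an inner automorphism
every automorphism fixes an element of order seven and one of order six, and two relations leave
two images for a third generator.
-/

set_option autoImplicit false

namespace CfsgLib.J2Ico.Outer

open MulAction CfsgLib.Mathieu CfsgLib.Mathieu.GraphAut CfsgLib.Mathieu.RankThree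
  CfsgLib.Mathieu.J2Cert CfsgLib.Mathieu.J2 CfsgLib.J2Ico.CentraliserSearch

local instance fact_prime_seven_j2 : Fact (Nat.Prime 7) := ⟨by norm_num⟩

theorem wordOk_spec {c : ℕ} {w : List ℕ} (h : wordOk c w = true) :
    isPerm7 100 c = true ∧ perm7 100 c ∈ j2Group := by
  simp only [wordOk, Bool.and_eq_true, List.all_eq_true, List.mem_range, beq_iff_eq] at h
  refine ⟨h.1.1, ?_⟩
  have he : perm7 100 c = wordPerm7 100 gensP w := Equiv.ext fun x => Fin.ext (by
    rw [perm7_apply h.1.1, wordPerm7_apply gens_perm h.1.2, h.2 x.1 x.2])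
  rw [he]
  exact wordPerm7_mem perm7_mem_gen7 h.1.2

/-- The element of order seven. -/
noncomputable def gA : j2Group := ⟨perm7 100 ta, (wordOk_spec ta_ok).2⟩

/-- The element of order six. -/
noncomputable def gB : j2Group := ⟨perm7 100 tb, (wordOk_spec tb_ok).2⟩

/-- The third generator. -/
noncomputable def gX : j2Group := ⟨perm7 100 tx, (wordOk_spec tx_ok).2⟩

theorem perm7_pow_apply {c : ℕ} (h : isPerm7 100 c = true) (k : ℕ) (x : Fin 100) :
    ((perm7 100 c ^ k) x : ℕ) = (app7 c)^[k] x.1 := by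
  induction k with
  | zero => rfl
  | succ k ih => rw [pow_succ', Equiv.Perm.mul_apply, perm7_apply h, ih,
      Function.iterate_succ_apply']

theorem ext_val {g h : j2Group} (e : ∀ x : Fin 100, ((g : Equiv.Perm (Fin 100)) x).1 =
    ((h : Equiv.Perm (Fin 100)) x).1) : g = h :=
  Subtype.ext (Equiv.ext fun x => Fin.ext (e x))

theorem shape : gA ^ 7 = 1 ∧ gA ≠ 1 ∧ gB * gA * gB⁻¹ = gA ^ 3 ∧ gX * gB * gX⁻¹ = gB⁻¹ ∧
    gB ^ 6 = 1 := by
  have ha := (wordOk_spec ta_ok).1
  have hb := (wordOk_spec tb_ok).1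
  have hx := (wordOk_spec tx_ok).1
  have h := shape_ok
  simp only [List.all_eq_true, List.mem_range, Bool.and_eq_true, beq_iff_eq] at h
  have h6 : gB ^ 6 = 1 := ext_val fun x => by
    rw [SubgroupClass.coe_pow, gB, perm7_pow_apply hb, (h x.1 x.2).2]; rfl
  refine ⟨ext_val fun x => ?_, fun he => ?_, ?_, ?_, h6⟩
  · rw [SubgroupClass.coe_pow, gA, perm7_pow_apply ha, (h x.1 x.2).1.1.1]; rfl
  · have hm := ta_moves
    simp only [List.any_eq_true, List.mem_range, bne_iff_ne] at hm
    obtain ⟨x, hx100, hne⟩ := hm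
    apply hne
    have he' : perm7 100 ta = 1 := congrArg Subtype.val he
    rw [← perm7_apply ha ⟨x, hx100⟩, he']; rfl
  · rw [mul_inv_eq_iff_eq_mul]
    refine ext_val fun x => ?_
    rw [Subgroup.coe_mul, Subgroup.coe_mul, SubgroupClass.coe_pow, Equiv.Perm.mul_apply,
      Equiv.Perm.mul_apply, gA, gB, perm7_pow_apply ha, perm7_apply hb, perm7_apply ha,
      perm7_apply hb, (h x.1 x.2).1.1.2]
  · have h5 : gX * gB = gB ^ 5 * gX := by
      refine ext_val fun x => ?_
      rw [Subgroup.coe_mul, Subgroup.coe_mul, SubgroupClass.coe_pow, Equiv.Perm.mul_apply,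
        Equiv.Perm.mul_apply, gX, gB, perm7_pow_apply hb, perm7_apply hx, perm7_apply hb,
        perm7_apply hx, (h x.1 x.2).1.2]
    rw [mul_inv_eq_iff_eq_mul, h5]
    congr 1
    exact eq_inv_of_mul_eq_one_left (by rw [← pow_succ, h6])

/-- The codes of an odd automorphism are not in the group. -/
theorem out_notMem {l : List (ℕ × List ℕ)} (hl : outOk l = true) {g : Equiv.Perm (Fin 100)}
    (hg : g ∈ j2Group) {c : ℕ} (hc : c ∈ l.map Prod.fst)
    (he : ∀ x : Fin 100, (g x).1 = app7 c x.1) : False := by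
  obtain ⟨⟨c', w⟩, hq, rfl⟩ := List.mem_map.1 hc
  simp only [outOk, List.all_eq_true, Bool.and_eq_true, List.mem_range, beq_iff_eq] at hl
  obtain ⟨hv, hx⟩ := hl _ hq
  have ho : isPerm7 100 oddGen = true := (Bool.and_eq_true _ _ ▸ oddGen_aut : _ ∧ _).1
  have e : g = perm7 100 oddGen * wordPerm7 100 gensP w := Equiv.ext fun x => Fin.ext (by
    rw [he x, Equiv.Perm.mul_apply, perm7_apply ho, wordPerm7_apply gens_perm hv]
    exact hx x.1 x.2)
  apply oddGen_notMem
  rw [eq_mul_inv_of_mul_eq e.symm]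
  exact mul_mem hg (inv_mem (wordPerm7_mem perm7_mem_gen7 hv))

theorem mem_centA {g : Equiv.Perm (Fin 100)} (hg : g ∈ rowAut 100 rows)
    (hc : g * perm7 100 ta = perm7 100 ta * g) :
    ∃ c ∈ centAIn ++ centAOut.map Prod.fst, ∀ x : Fin 100, (g x).1 = app7 c x.1 :=
  search_sound (wordOk_spec ta_ok).1 hg hc ptsA [] (fun q hq => absurd hq (by simp)) searchA

theorem mem_centB {g : Equiv.Perm (Fin 100)} (hg : g ∈ rowAut 100 rows)
    (hc : g * perm7 100 tb = perm7 100 tb * g) :
    ∃ c ∈ centBIn ++ centBOut.map Prod.fst, ∀ x : Fin 100, (g x).1 = app7 c x.1 :=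
  search_sound (wordOk_spec tb_ok).1 hg hc ptsB [] (fun q hq => absurd hq (by simp)) searchB

theorem cent_gA (g : j2Group) (hg : g * gA = gA * g) : g ∈ Subgroup.zpowers gA := by
  obtain ⟨c, hc, he⟩ := mem_centA (j2Group_le g.2) (congrArg Subtype.val hg)
  rcases List.mem_append.1 hc with hc | hc
  · have h := powersA
    simp only [List.all_eq_true, List.any_eq_true, List.mem_range, beq_iff_eq] at h
    obtain ⟨k, -, hk⟩ := h c hc
    have : g = gA ^ k := ext_val fun x => by
      rw [he x, hk x.1 x.2, SubgroupClass.coe_pow, gA, perm7_pow_apply (wordOk_spec ta_ok).1]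
    rw [this]
    exact Subgroup.npow_mem_zpowers gA k
  · exact (out_notMem outA_ok g.2 hc he).elim

theorem cent_gB (g : j2Group) (hg : g * gB = gB * g) :
    ∃ c ∈ centBIn, ∀ x : Fin 100, ((g : Equiv.Perm (Fin 100)) x).1 = app7 c x.1 := by
  obtain ⟨c, hc, he⟩ := mem_centB (j2Group_le g.2) (congrArg Subtype.val hg)
  rcases List.mem_append.1 hc with hc | hc
  · exact ⟨c, hc, he⟩
  · exact (out_notMem outB_ok g.2 hc he).elim

theorem generated {H : Subgroup (Equiv.Perm (Fin 100))} (ha : perm7 100 ta ∈ H)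
    (hb : perm7 100 tb ∈ H) (hx : perm7 100 tx ∈ H) : j2Group ≤ H := by
  have hperm : ∀ c ∈ triple, isPerm7 100 c = true := by
    simp only [triple, List.mem_cons, List.not_mem_nil, or_false]
    rintro c (rfl | rfl | rfl)
    exacts [(wordOk_spec ta_ok).1, (wordOk_spec tb_ok).1, (wordOk_spec tx_ok).1]
  have hmem : ∀ c ∈ triple, perm7 100 c ∈ H := by
    simp only [triple, List.mem_cons, List.not_mem_nil, or_false]
    rintro c (rfl | rfl | rfl) <;> assumption
  have hlist : ∀ (cs : List ℕ) (ws : List (List ℕ)), genOk cs ws = true →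
      (∀ c ∈ cs, isPerm7 100 c = true) → ∀ c ∈ cs, perm7 100 c ∈ H := by
    intro cs
    induction cs with
    | nil => intro ws _ _ c hc; simp at hc
    | cons d cs ih =>
      intro ws h hp c hc
      cases ws with
      | nil => simp [genOk] at h
      | cons w ws =>
        simp only [genOk, Bool.and_eq_true, List.all_eq_true, List.mem_range, beq_iff_eq] at h
        rcases List.mem_cons.1 hc with rfl | hc
        · have : perm7 100 c = wordPerm7 100 triple w := Equiv.ext fun x => Fin.ext (by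
            rw [perm7_apply (hp c (List.mem_cons_self ..)), wordPerm7_apply hperm h.1.1,
              h.1.2 x.1 x.2])
          rw [this]
          exact wordPerm7_mem hmem h.1.1
        · exact ih ws h.2 (fun e he => hp e (List.mem_cons_of_mem _ he)) c hc
  refine (Subgroup.closure_le _).2 ?_
  rintro _ ⟨c, hc, rfl⟩
  exact hlist _ _ gen_ok gens_perm c hc

theorem aut_ext {φ ψ : MulAut j2Group} (ha : φ gA = ψ gA) (hb : φ gB = ψ gB) (hx : φ gX = ψ gX) :
    φ = ψ := by
  have h := generated (H := (φ.toMonoidHom.eqLocus ψ.toMonoidHom).map j2Group.subtype)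
    ⟨gA, ha, rfl⟩ ⟨gB, hb, rfl⟩ ⟨gX, hx, rfl⟩
  refine MulEquiv.ext fun g => ?_
  obtain ⟨g', hg', he⟩ := h g.2
  obtain rfl : g' = g := Subtype.ext he
  exact hg'

/-- After an inner automorphism an automorphism fixes both. -/
theorem exists_inner_fix (φ : MulAut j2Group) : ∃ g : j2Group,
    (MulAut.conj g * φ) gA = gA ∧ (MulAut.conj g * φ) gB = gB := by
  obtain ⟨h7, h1, hba, -, -⟩ := shape
  obtain ⟨g, hb, ha⟩ := OutMathieu.exists_normalised (p := 7) (r := 3) (a := gA) (b := gB)
    (orderOf_eq_prime h7 h1) (by rw [card_j2Group]; norm_num) hba cent_gA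
    (by decide) (by decide) φ
  rcases ha with ha | ha
  · exact ⟨g, ha, hb⟩
  · refine ⟨gB ^ 3 * g, ?_, ?_⟩ <;>
      rw [map_mul, mul_assoc, MulAut.mul_apply, MulAut.conj_apply]
    · rw [ha]
      have hpow : ∀ k : ℕ, gB * gA ^ k * gB⁻¹ = gA ^ (3 * k) := fun k => by
        rw [← conj_pow, hba, ← pow_mul]
      have e : gB ^ 3 * gA ^ 6 * (gB ^ 3)⁻¹ = gA ^ 162 := by
        rw [show gB ^ 3 * gA ^ 6 * (gB ^ 3)⁻¹ =
          gB * (gB * (gB * gA ^ 6 * gB⁻¹) * gB⁻¹) * gB⁻¹ by
            simp only [pow_three, mul_inv_rev, mul_assoc], hpow, hpow, hpow]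
      rw [inv_eq_of_mul_eq_one_right (show gA * gA ^ 6 = 1 by rw [← pow_succ', h7]), e,
        pow_eq_pow_mod 162 h7, pow_one]
    · rw [hb, ((Commute.refl gB).pow_left 3).eq, mul_inv_cancel_right]

theorem wordPerm7_eq_map (w : List ℕ) (φ : MulAut j2Group) {z : ℕ}
    (ha : φ gA = gA) (hb : φ gB = gB)
    (hz : (φ gX : Equiv.Perm (Fin 100)) = perm7 100 tx * perm7 100 z)
    (hw : wordValid triple w = true) :
    ∃ g : j2Group, (g : Equiv.Perm (Fin 100)) = wordPerm7 100 triple w ∧
      (φ g : Equiv.Perm (Fin 100)) = wordPerm7 100 [ta, tb, tx, z] (substWord w) := by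
  induction w with
  | nil => exact ⟨1, rfl, by rw [map_one]; rfl⟩
  | cons i w ih =>
    rw [wordValid, List.all_cons, Bool.and_eq_true, decide_eq_true_eq] at hw
    obtain ⟨g, hg, hφ⟩ := ih hw.2
    have hi : i < 3 := hw.1
    interval_cases i
    · exact ⟨gA * g, by rw [Subgroup.coe_mul, hg]; rfl,
        by rw [map_mul, ha, Subgroup.coe_mul, hφ]; simp [substWord, wordPerm7, gA, gB]⟩
    · exact ⟨gB * g, by rw [Subgroup.coe_mul, hg]; rfl,
        by rw [map_mul, hb, Subgroup.coe_mul, hφ]; simp [substWord, wordPerm7, gA, gB]⟩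
    · exact ⟨gX * g, by rw [Subgroup.coe_mul, hg]; rfl,
        by rw [map_mul, Subgroup.coe_mul, hz, hφ, mul_assoc]; rfl⟩

theorem wordValid_subst (w : List ℕ) (z : ℕ) (hw : wordValid triple w = true) :
    wordValid [ta, tb, tx, z] (substWord w) = true := by
  induction w with
  | nil => rfl
  | cons i w ih =>
    rw [wordValid, List.all_cons, Bool.and_eq_true, decide_eq_true_eq] at hw
    have hi : i < 3 := hw.1
    have := ih hw.2
    interval_cases i <;> simp [substWord, wordValid] at this ⊢ <;> exact this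

/-- An automorphism fixing both fixes the third generator or moves it by the listed element. -/
theorem fix_cases {φ : MulAut j2Group} (ha : φ gA = gA) (hb : φ gB = gB) :
    φ gX = gX ∨ ∀ x : Fin 100, ((φ gX : Equiv.Perm (Fin 100)) x).1 = app7 tx (app7 zOdd x.1) := by
  obtain ⟨-, -, -, hx, -⟩ := shape
  have hx' : φ gX * gB * (φ gX)⁻¹ = gB⁻¹ := by
    have e := congrArg φ hx
    simp only [map_mul, map_inv, hb] at e
    exact e
  have hcomm : gX⁻¹ * φ gX * gB = gB * (gX⁻¹ * φ gX) := by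
    have e1 : φ gX * gB = gB⁻¹ * φ gX := mul_inv_eq_iff_eq_mul.1 hx'
    have e2 : gX⁻¹ * gB⁻¹ = gB * gX⁻¹ := by
      rw [← hx]; group
    rw [mul_assoc, e1, ← mul_assoc, e2, mul_assoc]
  obtain ⟨c, hc, he⟩ := cent_gB _ hcomm
  have hperm := codes_ok
  simp only [List.all_eq_true, List.mem_append] at hperm
  have hcp := hperm c (Or.inl (Or.inr hc))
  have hval : (φ gX : Equiv.Perm (Fin 100)) = perm7 100 tx * perm7 100 c := by
    have hz : ((gX⁻¹ * φ gX : j2Group) : Equiv.Perm (Fin 100)) = perm7 100 c :=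
      Equiv.ext fun x => Fin.ext (by rw [he x, perm7_apply hcp])
    have : φ gX = gX * (gX⁻¹ * φ gX) := (mul_inv_cancel_left _ _).symm
    rw [this, Subgroup.coe_mul, hz]
    rfl
  have hrel := relations_ok
  simp only [List.all_eq_true, List.any_eq_true, Bool.and_eq_true, Bool.or_eq_true,
    List.mem_range, beq_iff_eq, bne_iff_ne] at hrel
  rcases hrel.2 c hc with (h | h) | ⟨w, hw, x, hx100, hne⟩
  · left
    have : perm7 100 c = 1 := Equiv.ext fun x => Fin.ext (by rw [perm7_apply hcp, h x.1 x.2]; rfl)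
    exact Subtype.ext (by rw [hval, this, mul_one]; rfl)
  · right
    intro x
    rw [hval, Equiv.Perm.mul_apply, perm7_apply (wordOk_spec tx_ok).1, perm7_apply hcp, h]
  · exfalso
    obtain ⟨hv, hid⟩ := hrel.1 w hw
    obtain ⟨g, hg, hφ⟩ := wordPerm7_eq_map w φ ha hb hval hv
    have htri : ∀ d ∈ triple, isPerm7 100 d = true := by
      simp only [triple, List.mem_cons, List.not_mem_nil, or_false]
      rintro d (rfl | rfl | rfl)
      exacts [(wordOk_spec ta_ok).1, (wordOk_spec tb_ok).1, (wordOk_spec tx_ok).1]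
    have hg1 : g = 1 := ext_val fun y => by
      rw [hg, wordPerm7_apply htri hv, hid y.1 y.2]; rfl
    apply hne
    have hquad : ∀ d ∈ [ta, tb, tx, c], isPerm7 100 d = true := by
      simp only [List.mem_cons, List.not_mem_nil, or_false]
      rintro d (rfl | rfl | rfl | rfl)
      exacts [(wordOk_spec ta_ok).1, (wordOk_spec tb_ok).1, (wordOk_spec tx_ok).1, hcp]
    rw [← wordPerm7_apply hquad (wordValid_subst w c hv) ⟨x, hx100⟩, ← hφ, hg1, map_one]
    rfl

theorem conj_odd_mem (g : Equiv.Perm (Fin 100)) (hg : g ∈ j2Group) :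
    perm7 100 oddGen * g * (perm7 100 oddGen)⁻¹ ∈ j2Group ∧
      (perm7 100 oddGen)⁻¹ * g * perm7 100 oddGen ∈ j2Group := by
  have ho := perm7_mem_rowAut oddGen_aut
  rw [← evenAut_eq] at hg ⊢
  refine ⟨Subgroup.mem_inf.2 ⟨Subgroup.mul_mem _ (Subgroup.mul_mem _ ho hg.1)
      (Subgroup.inv_mem _ ho), MonoidHom.mem_ker.2 ?_⟩,
    Subgroup.mem_inf.2 ⟨Subgroup.mul_mem _ (Subgroup.mul_mem _ (Subgroup.inv_mem _ ho) hg.1) ho,
      MonoidHom.mem_ker.2 ?_⟩⟩ <;>
  simp [MonoidHom.mem_ker.1 hg.2]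

/-- Conjugation by the odd automorphism. -/
noncomputable def oddConj : MulAut j2Group where
  toFun g := ⟨_, (conj_odd_mem g g.2).1⟩
  invFun g := ⟨_, (conj_odd_mem g g.2).2⟩
  left_inv g := Subtype.ext (by simp [mul_assoc])
  right_inv g := Subtype.ext (by simp [mul_assoc])
  map_mul' g h := Subtype.ext (by simp [mul_assoc])

theorem oddConj_notMem : oddConj ∉ Cfsg.Inn j2Group := by
  rintro ⟨g, hg⟩
  set o := perm7 100 oddGen with ho
  set u : Equiv.Perm (Fin 100) := (g : Equiv.Perm (Fin 100))⁻¹ * o with hu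
  have hu_aut : u ∈ rowAut 100 rows :=
    mul_mem (inv_mem (j2Group_le g.2)) (perm7_mem_rowAut oddGen_aut)
  have hcomm : ∀ y : j2Group, u * y = y * u := by
    intro y
    have e : (g : Equiv.Perm (Fin 100)) * y * (g : Equiv.Perm (Fin 100))⁻¹ = o * y * o⁻¹ :=
      congrArg Subtype.val (DFunLike.congr_fun hg y)
    calc u * y = (g : Equiv.Perm (Fin 100))⁻¹ * (o * y * o⁻¹) * o := by rw [hu]; group
      _ = y * u := by rw [← e, hu]; group
  obtain ⟨c, hc, he⟩ := mem_centA hu_aut (hcomm gA)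
  obtain ⟨c', hc', he'⟩ := mem_centB hu_aut (hcomm gB)
  have h := meet_ok
  simp only [List.all_eq_true, List.mem_range, Bool.or_eq_true, List.any_eq_true, beq_iff_eq,
    bne_iff_ne, Bool.not_eq_true', ← Bool.not_eq_true] at h
  rcases h c hc with (hid | hno) | ⟨x, hx, hne⟩
  · have hu1 : u = 1 := Equiv.ext fun x => Fin.ext (by rw [he x, hid x.1 x.2]; rfl)
    apply oddGen_notMem
    rw [← ho, show o = (g : Equiv.Perm (Fin 100)) from (inv_mul_eq_one.1 hu1).symm]
    exact g.2
  · exact hno ⟨c', hc', fun x hx => (he ⟨x, hx⟩).symm.trans (he' ⟨x, hx⟩)⟩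
  · apply hne
    have e := congrArg (fun p : Equiv.Perm (Fin 100) => (p ⟨x, hx⟩).1) (hcomm gX)
    simp only [Equiv.Perm.mul_apply] at e
    rw [he, gX, perm7_apply (wordOk_spec tx_ok).1, perm7_apply (wordOk_spec tx_ok).1, he] at e
    exact e

theorem natCard_out : Nat.card (Cfsg.Out j2Group) = 2 := by
  rw [Nat.card_eq_two_iff]
  refine ⟨QuotientGroup.mk 1, QuotientGroup.mk oddConj, fun h => oddConj_notMem ?_,
    Set.eq_univ_of_forall fun z => ?_⟩
  · rw [QuotientGroup.eq, inv_one, one_mul] at h; exact h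
  induction z using QuotientGroup.induction_on with
  | H φ =>
    simp only [Set.mem_insert_iff, Set.mem_singleton_iff]
    obtain ⟨g, hga, hgb⟩ := exists_inner_fix φ
    obtain ⟨k, hka, hkb⟩ := exists_inner_fix oddConj
    have hinn : ∀ (ψ : MulAut j2Group) (m : j2Group), (QuotientGroup.mk (MulAut.conj m * ψ) :
        Cfsg.Out j2Group) = QuotientGroup.mk ψ := fun ψ m => by
      rw [QuotientGroup.eq, mul_inv_rev]
      exact (Cfsg.innNormal j2Group).conj_mem' _ (inv_mem ⟨m, rfl⟩) ψ
    rw [← hinn φ g, ← hinn oddConj k]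
    have one : ∀ ψ : MulAut j2Group, ψ gA = gA → ψ gB = gB → ψ gX = gX → ψ = 1 :=
      fun ψ h1 h2 h3 => aut_ext h1 h2 h3
    rcases fix_cases hga hgb with h | h
    · exact Or.inl (congrArg _ (one _ hga hgb h))
    rcases fix_cases hka hkb with h' | h'
    · exfalso
      apply oddConj_notMem
      have e : MulAut.conj k * oddConj = 1 := one _ hka hkb h'
      rw [eq_inv_of_mul_eq_one_right e]
      exact inv_mem ⟨k, rfl⟩
    · refine Or.inr (congrArg _ (aut_ext (hga.trans hka.symm) (hgb.trans hkb.symm)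
        (ext_val fun x => (h x).trans (h' x).symm)))

/-- The outer automorphism group of the Hall–Janko group has order two. -/
theorem natCard_out_J2 : Nat.card (Cfsg.Out Cfsg.Spor.J2) = 2 := by
  rw [← natCard_out]
  refine Nat.card_congr (QuotientGroup.congr _ _ (MulAut.congr equivJ2) ?_).toEquiv
  ext ψ
  constructor
  · rintro ⟨_, ⟨g, rfl⟩, rfl⟩
    exact ⟨equivJ2 g, by ext; simp [MulAut.congr]⟩
  · rintro ⟨g, rfl⟩
    exact ⟨MulAut.conj (equivJ2.symm g), ⟨_, rfl⟩, by ext; simp [MulAut.congr]⟩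

end CfsgLib.J2Ico.Outer
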