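import Cfsg.Agent.Lib.J2Ico.OuterData
import Cfsg.Agent.Lib.J2Ico.CentraliserSearch

/-! Kernel checks of the certificates for the automorphisms of the Hall–Janko group. -/

set_option autoImplicit false
set_option Elab.async false
set_option maxRecDepth 100000

namespace CfsgLib.J2Ico.Outer

open CfsgLib.Mathieu CfsgLib.Mathieu.GraphAut CfsgLib.Mathieu.J2Cert CfsgLib.J2Ico.CentraliserSearch

/-- The generators are the words. -/
def wordOk (c : ℕ) (w : List ℕ) : Bool :=
  isPerm7 100 c && wordValid gensP w && (List.range 100).all fun x => app7 c x == word7 gensP w x

/-- The listed elements outside are the odd automorphism times group elements. -/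
def outOk (l : List (ℕ × List ℕ)) : Bool :=
  l.all fun q => wordValid gensP q.2 &&
    (List.range 100).all fun x => app7 q.1 x == app7 oddGen (word7 gensP q.2 x)

/-- The codes of the three generators. -/
def triple : List ℕ := [ta, tb, tx]

/-- A word with the third generator replaced by the product with a fourth one. -/
def substWord : List ℕ → List ℕ
  | [] => []
  | i :: w => (if i = 2 then [2, 3] else [i]) ++ substWord w

/-- The words in the three generators. -/
def genOk : List ℕ → List (List ℕ) → Bool
  | [], [] => true
  | c :: cs, w :: ws => wordValid triple w &&
      ((List.range 100).all fun x => app7 c x == word7 triple w x) && genOk cs ws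
  | _, _ => false

theorem ta_ok : wordOk ta taWord = true := by decide +kernel
theorem tb_ok : wordOk tb tbWord = true := by decide +kernel
theorem tx_ok : wordOk tx txWord = true := by decide +kernel

theorem gen_ok : genOk gensP genWords = true := by decide +kernel

/-- The defining conditions of the three generators. -/
theorem shape_ok : ((List.range 100).all fun x =>
    (app7 ta)^[7] x == x && app7 tb (app7 ta x) == (app7 ta)^[3] (app7 tb x) &&
    app7 tx (app7 tb x) == (app7 tb)^[5] (app7 tx x) &&
    (app7 tb)^[6] x == x) = true := by decide +kernel

theorem ta_moves : ((List.range 100).any fun x => app7 ta x != x) = true := by decide +kernel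

theorem outA_ok : outOk centAOut = true := by decide +kernel
theorem outB_ok : outOk centBOut = true := by decide +kernel

theorem searchA : search 100 rows ta (centAIn ++ centAOut.map Prod.fst) [] ptsA = true := by
  rw [show ptsA = ptsA.head (by decide) :: ptsA.tail from rfl, search, Bool.and_eq_true]
  refine ⟨by decide +kernel, ?_⟩
  rw [show List.range 100 = List.range' 0 20 ++ List.range' 20 20 ++ List.range' 40 20 ++ List.range' 60 20 ++
    List.range' 80 20 by decide +kernel]
  simp only [List.all_append, Bool.and_eq_true]
  repeat' apply And.intro
  all_goals decide +kernel

theorem searchB : search 100 rows tb (centBIn ++ centBOut.map Prod.fst) [] ptsB = true := by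
  rw [show ptsB = ptsB.head (by decide) :: ptsB.tail from rfl, search, Bool.and_eq_true]
  refine ⟨by decide +kernel, ?_⟩
  rw [show List.range 100 = List.range' 0 20 ++ List.range' 20 20 ++ List.range' 40 20 ++ List.range' 60 20 ++
    List.range' 80 20 by decide +kernel]
  simp only [List.all_append, Bool.and_eq_true]
  repeat' apply And.intro
  all_goals decide +kernel

theorem powersA : (centAIn.all fun c => (List.range 7).any fun k =>
    (List.range 100).all fun x => app7 c x == (app7 ta)^[k] x) = true := by decide +kernel

theorem meet_ok : ((centAIn ++ centAOut.map Prod.fst).all fun c =>
    ((List.range 100).all fun x => app7 c x == x) ||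
      !((centBIn ++ centBOut.map Prod.fst).any fun d =>
        (List.range 100).all fun x => app7 c x == app7 d x) ||
      (List.range 100).any fun x => app7 c (app7 tx x) != app7 tx (app7 c x)) = true := by
  decide +kernel

theorem codes_ok : ((centAIn ++ centAOut.map Prod.fst ++ centBIn ++ centBOut.map Prod.fst).all
    fun c => isPerm7 100 c) = true := by decide +kernel

/-- Every relation holds, and only two corrections of the third generator keep them. -/
theorem relations_ok : (relations.all fun w => wordValid triple w &&
      (List.range 100).all fun x => word7 triple w x == x) = true ∧
    (centBIn.all fun c => ((List.range 100).all fun x => app7 c x == x) ||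
      (c == zOdd) || relations.any fun w => (List.range 100).any fun x =>
        word7 [ta, tb, tx, c] (substWord w) x != x) = true := by
  constructor <;> decide +kernel

end CfsgLib.J2Ico.Outer
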