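import Cfsg.Agent.Lib.Mathieu.J2
import Cfsg.Agent.Lib.J2Ico.NineField

/-!
Certificates identifying a point stabiliser of the Hall–Janko permutation group with the special
unitary group in dimension three over the field with nine elements.
-/

set_option autoImplicit false
set_option maxRecDepth 100000

namespace CfsgLib.J2Ico.PointStab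

open CfsgLib.J2Ico.NineField

/-- Generators of the stabiliser. -/
def hGens : List ℕ := [
  1746107202226202007208986842686084910417581332766542083168160102527722732892622886865263227508042484416475079399040165368863233947669770640007761705905698984528996657649973768300121084149497130809581430144058112,
  3875034015786990399183551317484118176388328454992855775760896175060055216740879861350018286541662014046266192257422710026702068991966841288895536342731717460715724995816472054907973396096746798053389386221982208]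

/-- Their words. -/
def hWords : List (List ℕ) := [[8, 9, 6, 7, 8, 9, 6, 7, 4, 5], [6, 7, 8, 9, 8, 9, 4, 5, 6, 7, 4, 5, 6, 7, 4, 5, 0, 1]]

/-- A stabiliser chain. -/
def hLevels : List (ℕ × List (List ℕ)) := [(1, [[], [1, 0, 0, 1, 0], [0, 1], [1, 0, 1], [1, 1, 1, 1], [0], [1, 0, 0], [1, 1, 1, 0], [0, 0, 1, 1, 1], [0, 0, 0], [1, 0, 1, 0, 0], [0, 1, 0, 1], [0, 1, 1, 0], [0, 0, 1, 1], [0, 1, 0, 1, 0, 1], [0, 0, 0, 1, 0, 0], [1, 0], [1, 0, 1, 1], [0, 1, 0, 1, 1], [1, 0, 1, 0, 1], [1, 1, 0, 0], [0, 0, 1, 0, 0], [0, 0, 1], [0, 1, 0, 0], [1, 0, 0, 0], [0, 0, 1, 0], [0, 1, 1], [0, 0], [1, 1, 0], [1, 1], [0, 0, 0, 1, 0], [0, 1, 0], [0, 1, 1, 1], [1,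 1, 1], [1, 1, 0, 1], [1]]), (21, [[1, 1, 0, 1, 1, 0, 1, 0, 1], [0, 1, 1, 0, 0, 0, 0, 0], [1, 1, 0, 0, 0, 1, 1, 1], [1, 0, 0, 1, 1], [1, 1, 1, 1, 0, 0, 0, 1], [1, 0, 1, 0, 0, 1, 1, 1, 1], [0, 1, 1, 0, 1, 1, 0, 0, 1, 1], [1, 0, 0, 1, 0, 0, 0, 0], [], [0, 0, 1, 1, 1, 0], [1, 0, 0, 1, 0, 1, 0, 0, 0, 1, 0], [0, 1, 1, 0, 1], [0, 0, 1, 0, 0, 0, 0, 1, 0], [0, 0, 1, 1, 0, 1, 0, 0, 1], [0, 0, 1, 0, 1, 1, 0, 0, 1], [0, 1, 0, 0, 0, 0, 1, 0, 0], [0, 1, 1, 0, 1, 0, 1, 1, 0, 1], [1, 1, 1, 0, 0, 1, 0, 1, 1], [0, 0, 0, 0, 0, 1, 1], [0, 1, 1, 1, 0, 0, 1, 1, 1], [1, 0, 0, 1, 1, 0, 1, 1, 0, 1]]), (25, [[], [1, 1, 1, 1, 1, 1]]), (20, [[1, 0, 1, 0, 1, 0, 1, 0, 1],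 [], [0, 0, 1, 0, 1, 0, 0, 0, 1, 0, 1, 0], [0, 1, 0, 1, 0, 0, 0, 1, 0, 1, 0, 0]])]

/-- The far suborbit in the order of the unitary points. -/
def farList : List ℕ := [37, 38, 39, 40, 41, 42, 43, 44, 45, 46, 47, 48, 49, 50, 51, 52, 53, 54, 55, 56, 57, 58, 59, 60, 61, 62, 63, 64, 65, 66, 67, 68, 69, 70, 71, 72, 73, 74, 75, 76, 77, 78, 79, 80, 81, 82, 83, 84, 85, 86, 87, 88, 89, 90, 91, 92, 93, 94, 95, 96, 97, 98, 99]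

/-- The action of the generators on the far suborbit. -/
def actPerms : List (List ℕ) := [[16, 11, 42, 21, 1, 6, 0, 17, 20, 19, 18, 15, 61, 26, 38, 49, 12, 52, 40, 27, 59, 13, 37, 62, 47, 31, 30, 36, 54, 4, 22, 60, 45, 7, 56, 51, 29, 46, 2, 34, 10, 24, 14, 28, 48, 58, 41, 53, 55, 35, 23, 9, 33, 3, 43, 39, 32, 57, 8, 44, 50, 25, 5], [58, 33, 6, 5, 51, 40, 4, 44, 49, 34, 19, 48, 16, 41, 28, 14, 13, 35, 46, 32, 7, 39, 23, 54, 26, 42, 12, 37, 50, 43, 1, 22, 29, 17, 36, 21, 18, 53, 15, 8, 31, 2, 24, 9, 20, 30, 52, 10, 45, 11, 3, 25, 47, 27, 38, 61, 56, 60, 55, 62, 59, 0, 57]]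

/-- Representatives of the non-isotropic points. -/
def points : List (Fin 3 → K) := [![⟨0, 0⟩, ⟨0, 0⟩, ⟨1, 0⟩],
  ![⟨0, 0⟩, ⟨1, 0⟩, ⟨0, 0⟩],
  ![⟨0, 0⟩, ⟨1, 0⟩, ⟨0, 1⟩],
  ![⟨0, 0⟩, ⟨1, 0⟩, ⟨0, 2⟩],
  ![⟨0, 0⟩, ⟨1, 0⟩, ⟨1, 0⟩],
  ![⟨0, 0⟩, ⟨1, 0⟩, ⟨2, 0⟩],
  ![⟨1, 0⟩, ⟨0, 0⟩, ⟨0, 0⟩],
  ![⟨1, 0⟩, ⟨0, 0⟩, ⟨0, 1⟩],
  ![⟨1, 0⟩, ⟨0, 0⟩, ⟨0, 2⟩],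
  ![⟨1, 0⟩, ⟨0, 0⟩, ⟨1, 0⟩],
  ![⟨1, 0⟩, ⟨0, 0⟩, ⟨2, 0⟩],
  ![⟨1, 0⟩, ⟨0, 1⟩, ⟨0, 0⟩],
  ![⟨1, 0⟩, ⟨0, 1⟩, ⟨1, 1⟩],
  ![⟨1, 0⟩, ⟨0, 1⟩, ⟨1, 2⟩],
  ![⟨1, 0⟩, ⟨0, 1⟩, ⟨2, 1⟩],
  ![⟨1, 0⟩, ⟨0, 1⟩, ⟨2, 2⟩],
  ![⟨1, 0⟩, ⟨0, 2⟩, ⟨0, 0⟩],
  ![⟨1, 0⟩, ⟨0, 2⟩, ⟨1, 1⟩],
  ![⟨1, 0⟩, ⟨0, 2⟩, ⟨1, 2⟩],
  ![⟨1, 0⟩, ⟨0, 2⟩, ⟨2, 1⟩],
  ![⟨1, 0⟩, ⟨0, 2⟩, ⟨2, 2⟩],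
  ![⟨1, 0⟩, ⟨1, 0⟩, ⟨0, 0⟩],
  ![⟨1, 0⟩, ⟨1, 0⟩, ⟨1, 1⟩],
  ![⟨1, 0⟩, ⟨1, 0⟩, ⟨1, 2⟩],
  ![⟨1, 0⟩, ⟨1, 0⟩, ⟨2, 1⟩],
  ![⟨1, 0⟩, ⟨1, 0⟩, ⟨2, 2⟩],
  ![⟨1, 0⟩, ⟨1, 1⟩, ⟨0, 1⟩],
  ![⟨1, 0⟩, ⟨1, 1⟩, ⟨0, 2⟩],
  ![⟨1, 0⟩, ⟨1, 1⟩, ⟨1, 0⟩],
  ![⟨1, 0⟩, ⟨1, 1⟩, ⟨1, 1⟩],
  ![⟨1, 0⟩, ⟨1, 1⟩, ⟨1, 2⟩],
  ![⟨1, 0⟩, ⟨1, 1⟩, ⟨2, 0⟩],
  ![⟨1, 0⟩, ⟨1, 1⟩, ⟨2, 1⟩],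
  ![⟨1, 0⟩, ⟨1, 1⟩, ⟨2, 2⟩],
  ![⟨1, 0⟩, ⟨1, 2⟩, ⟨0, 1⟩],
  ![⟨1, 0⟩, ⟨1, 2⟩, ⟨0, 2⟩],
  ![⟨1, 0⟩, ⟨1, 2⟩, ⟨1, 0⟩],
  ![⟨1, 0⟩, ⟨1, 2⟩, ⟨1, 1⟩],
  ![⟨1, 0⟩, ⟨1, 2⟩, ⟨1, 2⟩],
  ![⟨1, 0⟩, ⟨1, 2⟩, ⟨2, 0⟩],
  ![⟨1, 0⟩, ⟨1, 2⟩, ⟨2, 1⟩],
  ![⟨1, 0⟩, ⟨1, 2⟩, ⟨2, 2⟩],
  ![⟨1, 0⟩, ⟨2, 0⟩, ⟨0, 0⟩],
  ![⟨1, 0⟩, ⟨2, 0⟩, ⟨1, 1⟩],
  ![⟨1, 0⟩, ⟨2, 0⟩, ⟨1, 2⟩],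
  ![⟨1, 0⟩, ⟨2, 0⟩, ⟨2, 1⟩],
  ![⟨1, 0⟩, ⟨2, 0⟩, ⟨2, 2⟩],
  ![⟨1, 0⟩, ⟨2, 1⟩, ⟨0, 1⟩],
  ![⟨1, 0⟩, ⟨2, 1⟩, ⟨0, 2⟩],
  ![⟨1, 0⟩, ⟨2, 1⟩, ⟨1, 0⟩],
  ![⟨1, 0⟩, ⟨2, 1⟩, ⟨1, 1⟩],
  ![⟨1, 0⟩, ⟨2, 1⟩, ⟨1, 2⟩],
  ![⟨1, 0⟩, ⟨2, 1⟩, ⟨2, 0⟩],
  ![⟨1, 0⟩, ⟨2, 1⟩, ⟨2, 1⟩],
  ![⟨1, 0⟩, ⟨2, 1⟩, ⟨2, 2⟩],
  ![⟨1, 0⟩, ⟨2, 2⟩, ⟨0, 1⟩],
  ![⟨1, 0⟩, ⟨2, 2⟩, ⟨0, 2⟩],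
  ![⟨1, 0⟩, ⟨2, 2⟩, ⟨1, 0⟩],
  ![⟨1, 0⟩, ⟨2, 2⟩, ⟨1, 1⟩],
  ![⟨1, 0⟩, ⟨2, 2⟩, ⟨1, 2⟩],
  ![⟨1, 0⟩, ⟨2, 2⟩, ⟨2, 0⟩],
  ![⟨1, 0⟩, ⟨2, 2⟩, ⟨2, 1⟩],
  ![⟨1, 0⟩, ⟨2, 2⟩, ⟨2, 2⟩]]

/-- A unitary matrix. -/
def mat0 : Matrix (Fin 3) (Fin 3) K := !![⟨0, 0⟩, ⟨1, 1⟩, ⟨2, 2⟩; ⟨0, 0⟩, ⟨2, 1⟩, ⟨2, 1⟩; ⟨2, 0⟩, ⟨0, 0⟩, ⟨0, 0⟩]

/-- A unitary matrix. -/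
def mat1 : Matrix (Fin 3) (Fin 3) K := !![⟨0, 0⟩, ⟨1, 1⟩, ⟨1, 2⟩; ⟨2, 1⟩, ⟨0, 2⟩, ⟨1, 0⟩; ⟨2, 1⟩, ⟨0, 1⟩, ⟨2, 0⟩]

end CfsgLib.J2Ico.PointStab
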