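/-!
Data for the isometry between the icosian lattice and the Leech lattice, and for the bound on the
centraliser of an element of order five of its automorphism group.
-/

set_option autoImplicit false
set_option maxRecDepth 100000

namespace CfsgLib.J2Ico.Section

/-- isoMat. -/
def isoMat : List (List Int) := [[-2, -1, 1, 1, 1, 2, 0, 0, 0, 0, 0, 0, 0, 0, 0, 0, 0, 0, 0, 0, 0, 0, 0, 0], [2, 3, 1, 1, 1, 2, 0, 0, 0, 0, 0, 0, 0, 0, 0, 0, 0, 0, 0, 0, 0, 0, 0, 0], [0, -1, 1, 1, 1, 0, 2, 2, 0, 0, 0, 0, 0, 0, 0, 0, 0, 0, 0, 0, 0, 0, 0, 0], [0, -1, 1, 1, 1, 0, -2, -2, 0, 0, 0, 0, 0, 0, 0, 0, 0, 0, 0, 0, 0, 0, 0, 0], [0, -1, 1, 3, -1, 0, 0, 0, 0, 0, 0, 0, 0, 0, 0, 0, 0, 0, 0, 0, 0, 0, 0, 0], [0, 0,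 0, 0, 0, 0, 0, 0, 1, 0, 0, 0, 0, 1, 1, 1, 0, -1, 1, 1, -1, -2, 0, 0], [0, 0, 0, 0, 0, 0, 0, 0, 0, -1, 1, 1, -1, -2, 0, 0, -1, 0, 0, 0, 0, -1, -1, -1], [0, 1, 1, 1, -1, -2, 0, 2, 0, 0, 0, 0, 0, 0, 0, 0, 0, 0, 0, 0, 0, 0, 0, 0], [0, 0, 0, 0, 0, 0, 0, 0, -1, -1, 0, -1, 0, 0, 1, 2, 0, 0, -1, 0, -1, -1, 0, 1], [0, 0, 0, 0, 0, 0, 0, 0, 0, 1, 1, 1, -1, 0, 0, 0, -1, -2, 0, 0, 0, 1, -1, -1], [0, 1, -1, 1, 1, 0, 0, 0, 0, 0, 0, 0, 0, 0, 0, 0, 0, 0, 0, 0, 0, 0, 0, 0], [0, 0, 0, 0, 0, 0, 0, 0, 0, 1, -1, -1, 1, 2, 0, 0, -1, 0, 0, 0, 0, -1, -1, -1], [0, -1, -1, -1, 1, 2, 0, 2, 0, 0, 0, 0, 0, 0, 0, 0, 0, 0, 0, 0, 0, 0, 0, 0], [0, 0, 0, 0, 0, 0, 0, 0, 0, 0, -1, 0, -1, -1, 0, 1, -1, -1, 0, -1, 0, 0, 1, 2],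 [0, 0, 0, 0, 0, 0, 0, 0, -1, -2, 0, 0, 0, 1, -1, -1, 0, -1, -1, -1, 1, 0, 0, 0], [0, 0, 0, 0, 0, 0, 0, 0, 1, 1, 0, 1, 0, 0, -1, -2, 0, 0, -1, 0, -1, -1, 0, 1], [0, 0, 0, 0, 0, 0, 0, 0, -1, -1, 0, 1, 0, 0, 1, 0, 0, 0, 1, 2, 1, 1, 0, 1], [0, 0, 0, 0, 0, 0, 0, 0, 1, 2, 0, 0, 0, -1, 1, 1, 0, -1, -1, -1, 1, 0, 0, 0], [0, 0, 0, 0, 0, 0, 0, 0, 0, 0, 1, 0, 1, 1, 0, -1, -1, -1, 0, -1, 0, 0, 1, 2], [0, 0, 0, 0, 0, 0, 0, 0, 1, 1, 0, -1, 0, 0, -1, 0, 0, 0, 1, 2, 1, 1, 0, 1], [0, 0, 0, 0, 0, 0, 0, 0, 0, 0, 1, 2, 1, 1, 0, 1, -1, -1, 0, 1, 0, 0, 1, 0], [0, 0, 0, 0, 0, 0, 0, 0, 0, 0, -1, -2, -1, -1, 0, -1, -1, -1, 0, 1, 0, 0, 1, 0], [0, 0, 0, 0, 0, 0, 0, 0, 0, -1, -1, -1, 1, 0, 0, 0, -1, -2, 0, 0, 0, 1,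 -1, -1], [0, 0, 0, 0, 0, 0, 0, 0, -1, 0, 0, 0, 0, -1, -1, -1, 0, -1, 1, 1, -1, -2, 0, 0]]

/-- xMat. -/
def xMat : List (List Int) := [[-2, -2, -2, -2, -2, 0, 0, 2, 0, 0, -6, 0, -2, 0, 0, 0, 0, 0, 0, 0, 0, 0, 0, 0], [2, -6, 2, 2, 2, 0, 0, -2, 0, 0, -2, 0, 2, 0, 0, 0, 0, 0, 0, 0, 0, 0, 0, 0], [-2, -2, -2, 6, -2, 0, 0, 2, 0, 0, 2, 0, -2, 0, 0, 0, 0, 0, 0, 0, 0, 0, 0, 0], [-2, -2, -2, -2, -2, 0, 0, 2, 0, 0, 2, 0, 6, 0, 0, 0, 0, 0, 0, 0, 0, 0, 0, 0], [-2, -2, -2, -2, -2, 0, 0, -6, 0, 0, 2, 0, -2, 0, 0, 0, 0, 0, 0, 0, 0, 0, 0, 0], [0, 0, 0, 0, 0, -2, 2, 0, -2, -2, 0, -2, 0, -2, 2, 2, 2, 2, -2, -2, -2, -2, 2, -2], [0, 0, 0, 0, 0, -2, -2, 0, -2, -2, 0, 2, 0, 2, -2, 2, -2, -2, 2, 2, -2, -2, 2, -2],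 [2, 2, -6, 2, 2, 0, 0, -2, 0, 0, -2, 0, 2, 0, 0, 0, 0, 0, 0, 0, 0, 0, 0, 0], [0, 0, 0, 0, 0, -2, 2, 0, -2, 2, 0, -2, 0, -2, -2, 2, -2, -2, -2, 2, 2, 2, -2, -2], [0, 0, 0, 0, 0, 2, -2, 0, 2, -2, 0, -2, 0, -2, 2, 2, -2, -2, 2, -2, -2, 2, -2, -2], [6, -2, -2, -2, -2, 0, 0, 2, 0, 0, 2, 0, -2, 0, 0, 0, 0, 0, 0, 0, 0, 0, 0, 0], [0, 0, 0, 0, 0, -2, 2, 0, 2, 2, 0, -2, 0, 2, -2, -2, 2, -2, 2, -2, -2, -2, -2, -2], [-2, -2, -2, -2, 6, 0, 0, 2, 0, 0, 2, 0, -2, 0, 0, 0, 0, 0, 0, 0, 0, 0, 0, 0], [0, 0, 0, 0, 0, 2, -2, 0, -2, 2, 0, 2, 0, -2, -2, 2, 2, -2, -2, -2, -2, -2, -2, 2], [0, 0, 0, 0, 0, 2, 2, 0, 2, -2, 0, 2, 0, 2, -2, 2, 2, 2, -2, 2, -2, 2, -2, -2], [0, 0, 0, 0, 0, -2, -2, 0, 2, -2, 0, 2, 0, -2,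 -2, -2, 2, -2, -2, -2, 2, 2, 2, -2], [0, 0, 0, 0, 0, -2, 2, 0, 2, 2, 0, 2, 0, -2, -2, 2, -2, 2, 2, -2, -2, 2, 2, 2], [0, 0, 0, 0, 0, -2, 2, 0, 2, -2, 0, 2, 0, -2, 2, 2, 2, -2, 2, 2, 2, -2, -2, 2], [0, 0, 0, 0, 0, 2, 2, 0, 2, -2, 0, -2, 0, -2, -2, -2, -2, -2, -2, 2, -2, -2, 2, 2], [0, 0, 0, 0, 0, 2, 2, 0, 2, 2, 0, 2, 0, 2, 2, 2, -2, -2, -2, -2, 2, -2, 2, -2], [0, 0, 0, 0, 0, -2, 2, 0, -2, -2, 0, 2, 0, 2, 2, -2, -2, -2, -2, -2, -2, 2, -2, 2], [0, 0, 0, 0, 0, 2, 2, 0, -2, -2, 0, 2, 0, -2, -2, -2, -2, 2, 2, -2, 2, -2, -2, -2], [0, 0, 0, 0, 0, -2, -2, 0, 2, -2, 0, -2, 0, 2, -2, 2, -2, 2, -2, -2, 2, -2, -2, 2], [0, 0, 0, 0, 0, -2, -2, 0, 2, 2, 0, 2, 0, -2, 2, -2, -2, 2, -2, 2, -2, -2, -2, -2]]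

/-- scalarCode. -/
def scalarCode : List Int := [0, -1, 1, -1, -1, 0, 0, 0]

/-- orbits. -/
def orbits : List (List (List Int)) := [[[-3, 1, 1, 1, 1, 1, 1, 1, 1, 1, 1, 1, 1, 1, 1, 1, 1, 1, 1, 1, 1, 1, 1, 1], [-1, -1, 1, 1, -1, -1, -1, -1, -1, -1, -3, -1, 1, -1, 1, -1, 1, 1, -1, 1, -1, -1, -1, -1], [2, 2, 0, 0, 0, 2, 0, 0, 0, 0, -2, 0, -2, 0, 0, 0, -2, 0, 0, -2, 0, 0, 0, 2], [1, -1, -1, -3, -1, -1, -1, 1, -1, 1, 1, -1, -1, 1, -1, -1, 1, -1, 1, 1, 1, 1, 1, -1], [1, -1, -1, 1, 1, -1, 1, -1, 1, -1, 3, 1, 1, -1, -1, 1, -1, -1, -1, -1, -1, -1, -1, -1]], [[1, -1, -3, -1, -1, -1, 1, 1, -1, -1, 1, -1, -1, 1, -1, -1, -1, -1, -1, -1, 1, -1, 1, -1], [1, -1, 1, 1, 1, 1, 1, 1, 1, -1, 3, 1, 1, -1, -1,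 1, -1, -1, 1, 1, 1, 1, 1, -1], [-3, 1, 1, 1, -1, -1, 1, -1, 1, 1, 1, -1, 1, -1, 1, 1, 1, 1, 1, 1, -1, 1, -1, -1], [-1, -1, 1, 1, 1, 1, -1, -1, 1, 1, -3, 1, -1, -1, 1, -1, 1, 1, -1, -1, -1, -1, -1, 1], [2, 2, 0, -2, 0, 0, -2, 0, -2, 0, -2, 0, 0, 2, 0, 0, 0, 0, 0, 0, 0, 0, 0, 2]], [[1, -1, 1, -1, 1, 1, -1, -1, 1, 1, 1, 1, -1, -3, -1, -1, -1, 1, -1, 1, -1, 1, -1, -1], [-1, 1, -1, -1, 1, -1, -1, -1, 1, 1, 1, -1, 1, 1, 1, 1, 1, -1, 1, -1, -1, 1, -1, 3], [-1, -1, -1, 1, 1, -1, -1, 1, -1, 1, -1, 1, 1, 1, -1, -1, 1, 1, -1, -1, 1, -3, 1, -1], [1, 1, 1, 1, -1, 1, 1, 1, -1, -3, -1, 1, 1, 1, -1, 1, -1, -1, -1, 1, -1, 1, 1, 1], [0, 0, 0, 0, -2, 0, 2, 0, 0, 0, 0, -2, -2, 0, 2, 0, 0, 0, 2, 0, 2, 0, 0, -2]],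 [[2, -2, 0, 0, 0, 2, 0, 0, 0, 0, -2, 0, -2, 0, 0, 0, -2, 0, 0, -2, 0, 0, 0, -2], [2, 2, 0, -2, 0, 0, 0, 0, 0, 2, 2, 0, 0, 0, 0, 0, 0, -2, 0, 2, 0, 2, 0, 0], [-2, -2, -2, 0, 0, -2, 0, 0, 2, 0, 2, 0, 0, 0, 0, 0, 0, 0, 0, 0, 0, -2, -2, 0], [0, 0, 2, 2, 2, 0, 0, 0, 0, 0, 0, 2, 2, 0, 0, 0, 0, 2, 0, 0, 0, 0, 2, 2], [-2, 2, 0, 0, -2, 0, 0, 0, -2, -2, -2, -2, 0, 0, 0, 0, 2, 0, 0, 0, 0, 0, 0, 0]], [[1, 3, -1, -1, -1, -1, 1, 1, -1, -1, 1, -1, 1, -1, -1, 1, -1, -1, 1, -1, -1, -1, -1, 1], [-1, -3, -1, 1, -1, 1, 1, 1, 1, 1, 1, 1, -1, 1, -1, -1, 1, 1, 1, -1, 1, 1, 1, -1], [1, 1, 3, 1, 1, -1, -1, -1, -1, -1, 1, 1, 1, -1, 1, 1, 1, -1, -1, 1, -1, 1, -1, -1], [-3, 1, -1, -1, -1, 1, 1, -1, 1, 1, -1, -1, -1,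 1, 1, 1, -1, 1, -1, -1, 1, -1, -1, 1], [2, -2, 0, 0, 2, 0, -2, 0, 0, 0, -2, 0, 0, 0, 0, -2, 0, 0, 0, 2, 0, 0, 2, 0]], [[1, 1, 1, 1, 1, 1, 1, 1, 1, -3, 1, 1, 1, 1, 1, 1, 1, 1, 1, 1, 1, 1, 1, 1], [-2, 0, 0, 0, -2, 0, 0, 0, -2, 0, 0, -2, 0, -2, 2, 0, 0, 2, 0, 0, 0, 0, 0, -2], [1, -1, 1, 1, 1, 3, -1, -1, 1, 1, -1, -1, -1, -1, -1, -1, -1, -1, -1, -1, -1, 1, -1, 1], [0, 2, 0, -2, 0, -2, -2, 0, 0, 2, 0, 0, 0, 2, 0, 0, 0, -2, 2, 0, 0, 0, 0, 0], [0, -2, -2, 0, 0, -2, 2, 0, 0, 0, 0, 2, 0, 0, -2, 0, 0, 0, -2, 0, 0, -2, 0, 0]]]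

/-- classData. -/
def classData : List (Nat × List ((Nat × Nat) × Int)) := [(25, [((0, 0), -16), ((0, 1), -8), ((0, 2), 0), ((0, 3), 16)]), (2, [((0, 0), -8), ((0, 1), 0), ((0, 3), 0), ((1, 0), -8), ((1, 2), 0), ((1, 4), -8)]), (1, [((0, 0), -16), ((0, 2), 16), ((0, 4), 0), ((1, 2), -16), ((1, 4), 0)]), (1, [((0, 2), 8), ((0, 4), 8), ((1, 0), 8), ((1, 1), 0), ((1, 3), -16)]), (1, [((0, 0), 16), ((0, 1), -8), ((0, 2), 0), ((1, 1), 16), ((1, 4), 0), ((2, 4), 0)])]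

/-- spanScale. -/
def spanScale : Int := 8

/-- spanMat. -/
def spanMat : List (List Int) := [[-2, 0, 1, 1, -1, 0, 1, 0, -1, 0, 1, 0, 1, 2, 1, 1, 0, 0, 0, 0, 1, 0, 0, -1], [0, 0, 1, -1, 1, 0, 1, 0, 1, 0, 1, 0, -1, 0, -1, -1, 0, 0, 0, 0, 1, 0, 0, 1], [0, 0, -1, 3, 1, 0, 1, 2, -1, -2, -1, 0, 1, 0, 1, 3, 2, 0, 2, 2, 1, 0, 2, 1], [0, 0, 3, -1, -1, 0, 1, -2, -1, 0, 1, 0, -1, 0, 1, -1, -2, 0, 0, -2, -1, 0, 0, -1], [4, 0, -1, -1, 1, -2, -1, -2, 1, 0, -1, -2, 1, -2, -1, -1, 0, -2, 0, -2, -1, -2, 0, -1], [-2, -4, -5, -3, -3, -2, -3, 0, -1, -2, -1, 0, -1, 0, -1, -1, 0, 0, -2, 0, 1, 2, 2, 1], [2, 0, -3, -1, 1, -2, -1, 0, -1, -2, -3, -2, 1, 0, -1, 1, 2, 0, 0, 0, -1, -2, 0, -1], [4, 4, 5, 5, 3, 2, 3,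 2, 1, 2, 3, 2, 3, 2, 3, 1, 2, 0, 2, 0, 1, 0, 0, -1], [-2, 2, 3, 3, 3, 4, 5, 4, 1, 2, 3, 2, 1, 2, 1, 1, 0, 0, 0, 2, 3, 0, 0, 1], [0, 0, 1, 1, -1, 0, 1, 0, -1, 0, 1, 0, 1, 2, 1, 1, 0, 0, 0, 0, -1, 0, 0, -1], [-2, -4, -3, -1, -1, -2, -1, 0, -1, -2, -1, 0, -1, 0, 1, 1, 0, 0, 0, 0, 1, 2, 2, 1], [0, 0, -1, -3, -1, 0, -3, 0, 1, 0, -1, 0, -1, 0, -1, -1, 0, 2, 0, 0, -1, 0, -2, 1], [0, 4, -1, -1, 1, 2, -1, 0, 1, 2, 1, 0, 1, 2, -1, 1, 2, 2, 0, 2, 1, 0, 0, 1], [0, -2, -3, -1, -1, -4, -1, -2, -1, -2, -1, 0, 1, 0, 1, 1, 0, 0, 0, 0, 1, 0, 2, 1], [0, 0, -1, -1, 1, 0, -1, 2, -1, 0, -1, 0, 1, 2, 1, 1, 0, 0, 0, 0, 1, 2, 0, 1], [-2, -2, 3, 3, -3, 2, 3, 0, -1, 2, 3, 2, 1, 0, 1, -1, -2, -2, 0, 0, -1, 0, -2, -3],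 [-2, -2, -1, 1, -1, 0, 1, 2, -1, 0, 1, 0, -1, 0, -1, -1, 0, 0, 0, 0, 1, 0, 0, -1], [0, 0, 1, 1, -1, -2, 1, -2, 1, 0, 1, 0, 1, 0, 1, 1, 0, 0, 0, 0, 1, 0, 0, -1], [0, -2, -3, -3, -3, -2, -3, -2, -1, -2, -3, -2, -1, -2, -1, -1, 0, 0, -2, -2, -1, 0, 0, 1], [0, -2, -1, -1, -3, -2, -1, -2, -1, -2, -1, 0, -1, 0, 1, -1, -2, -2, -2, -2, -1, 0, 0, -1], [2, 6, 5, 1, 1, 4, -1, -2, 1, 2, 1, -2, -1, 0, -1, -1, 0, 2, 2, 2, -1, -2, -2, -1], [4, 6, 5, 1, 3, 2, 1, -2, 3, 4, 1, 0, 1, 0, -1, -1, 0, 2, 2, 0, -1, -2, -2, -1], [-4, -4, -1, 1, 1, 2, 3, 4, -1, 0, 1, 2, -1, 0, -1, 1, -2, -2, -2, 0, 1, 2, 0, 1], [0, 0, 1, 1, -1, 0, -1, 0, -1, 0, -1, 0, -1, 0, 1, 1, 0, 0, 0, 0, -1, 0, 0, -1]]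

/-- preimages. -/
def preimages : List (List Int) := [[0, 0, 0, 1, 1, 0, -1, 1, -2, 1, 0, 0, 1, -1, -1, 0, 0, -2, 0, 1, 1, -2, -1, 1], [0, 0, 0, 0, 0, 0, 0, 0, -1, 1, -3, 1, 1, -1, 1, -1, -1, -1, -1, 1, 1, -1, -1, 1], [0, 0, -2, 1, 1, 0, -1, 1, -1, 0, -1, 1, 0, 0, 0, -1, 0, -1, -2, 2, 1, -1, 1, 0], [0, 0, 0, 0, 0, 0, 0, 0, 0, 0, 0, 0, 0, 0, 0, 0, 0, -2, -2, 2, 2, 0, 0, 0], [0, 0, 0, 0, 0, 0, 0, 0, 0, 0, 0, 0, 0, 0, 0, 0, -2, 0, -2, 2, 0, 0, 0, 2], [0, 0, 0, 0, 0, 0, -2, 2, 1, 0, 1, 0, 1, 0, -1, 0, 0, -1, -2, 1, 2, -1, 0, 1], [0, 0, 0, 0, 0, 0, 0, 0, 1, -1, 1, -1, 1, -1, -1, -1, -1, -1, -1, 1, 1, -1, -1, 1], [0, 0, 0, 0, 0, 0, 0, 0, 0, 0, 0, 0, 0, 0, 0, 0, 0, -2, 0, 0, 2, -2, 2, 0], [1, -1,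 -1, 1, -1, 1, -1, 1, -1, 1, -1, 1, 1, -1, -1, 1, 0, -1, 0, 1, 2, -1, 0, 1], [1, -1, 0, 0, 1, 0, -2, 1, 1, 0, 0, -1, 1, -1, 0, 0, -1, -1, 0, 0, 1, 0, 0, 1], [1, -1, 0, 0, 1, 0, 0, 1, 0, 0, -1, 1, 2, -1, -1, 0, -1, -1, 0, 0, -1, 0, 0, 1], [1, 0, 0, 0, 0, 1, -1, 1, 1, -1, -2, 1, 0, 0, -1, 0, 0, -1, -1, 1, 1, 0, -2, 2], [-1, 0, 0, 0, 0, 1, -1, 1, -1, 0, 0, 0, 2, -1, 1, -1, 1, -2, 0, 0, 2, -1, -1, 1], [-3, 1, 1, 0, 0, 1, 0, 0, -2, 1, 0, 0, 1, -1, -1, 0, 1, -1, 1, 0, 0, -1, 0, 0], [1, 1, 1, 0, 0, 1, 0, 0, -2, 1, 0, 0, 1, -1, -1, 0, 1, -1, 1, 0, 0, -1, 0, 0], [1, -1, 1, 0, 2, -1, 2, 0, -2, 1, 0, 0, 1, -1, -1, 0, 1, -1, 1, 0, 0, -1, 0, 0], [1, -1, 1, 0, 2, -1, -2, 0, -2, 1, 0, 0, 1, -1, -1, 0, 1,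 -1, 1, 0, 0, -1, 0, 0], [1, -1, -1, 2, -2, 1, 0, 0, -2, 1, 0, 0, 1, -1, -1, 0, 1, -1, 1, 0, 0, -1, 0, 0], [0, 0, 0, 0, 0, 0, 0, 0, 0, 0, 0, 0, 0, 0, 0, 0, 2, -2, 2, 0, 0, -2, 0, 0], [0, 0, 0, 0, 0, 0, 0, 0, -1, 0, 1, 0, 1, -2, -1, 0, -1, 0, 1, 0, 1, -2, -1, 0], [-1, 1, 1, 0, 0, -1, -2, 2, -2, 1, 0, 0, 1, -1, -1, 0, 1, -1, 1, 0, 0, -1, 0, 0], [0, 0, 0, 0, 0, 0, 0, 0, -3, 1, 1, -1, 1, -1, -1, 1, 1, -1, -1, 1, -1, -1, -1, 1], [0, 0, 0, 0, 0, 0, 0, 0, -3, 2, 1, 0, -1, 0, -1, 0, 1, -2, 1, 0, -1, 0, -1, 0], [-1, 1, -3, 2, 2, -1, 0, 0, -2, 1, 0, 0, 1, -1, -1, 0, 1, -1, 1, 0, 0, -1, 0, 0], [0, 0, 0, 0, 0, 0, 0, 0, -3, 2, -1, 0, 1, 0, -1, 0, -1, 0, 1, 0, 1, -2, -1, 0], [1, -1, -1, 0, 0, 1, -2, 2,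 -2, 1, 0, 0, 1, -1, -1, 0, 1, -1, 1, 0, 0, -1, 0, 0], [0, 0, 0, 0, 0, 0, 0, 0, -2, 1, -2, 1, 0, -1, -2, 1, 0, -1, 2, -1, 0, -1, 0, 1], [0, 0, 0, 0, 0, 0, 0, 0, -2, 0, 0, 0, 0, 0, -2, 0, 2, -2, 0, 0, 2, -2, 0, 0], [0, 0, 0, 0, 0, 0, 0, 0, -1, 1, -1, 1, 1, -1, -1, -1, 1, -1, -1, 1, -1, -1, -1, 1], [0, 0, 0, 0, 0, 0, 0, 0, -3, 1, -1, 1, 1, -1, 1, -1, 1, -1, 1, 1, 1, -1, -1, 1], [0, 0, 0, 0, 0, 0, 0, 0, -2, 2, 0, 0, 2, -2, 0, 0, 2, -2, 0, 0, 2, -2, 0, 0], [0, 0, 0, 0, 0, 0, 0, 0, -2, 1, 2, -1, 2, -1, 0, -1, 0, -1, 2, -1, 0, -1, 0, 1], [0, 0, 0, 0, 0, 0, 0, 0, -1, 1, 1, -1, 1, -1, -3, 1, 1, -1, 1, 1, 1, -1, -1, 1], [0, 0, 0, 0, 0, 0, 0, 0, -2, 1, 0, 1, 2, -1, -2, 1, 0, -1, 0, 1, 0, -1, 2, -1],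 [0, 0, 0, 0, 0, 0, 0, 0, -2, 1, 0, -1, 0, -1, 0, -1, 0, -1, 0, 1, 0, -1, 2, -1], [0, 0, 0, 0, 0, 0, 0, 0, -1, 0, -1, 0, 3, -2, -1, 0, 1, -2, 1, 0, -1, 0, -1, 0], [0, 0, 0, 0, 0, 0, 0, 0, -4, 2, 0, 0, 2, -2, -2, 0, 2, -2, 2, 0, 0, -2, 0, 0]]

end CfsgLib.J2Ico.Section
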